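import Cfsg.Agent.Lib.PGroup.OrthTwoGen.Frame

/-!
A subgroup containing the cycle and all parameters at one centre is everything.
-/

set_option autoImplicit false
set_option linter.unusedSectionVars false

namespace CfsgLib.PGroup.OrthTwoGen

open scoped Matrix
open Matrix Cfsg.Geo CfsgLib.Perm.Asch CfsgLib.Perm.Trans CfsgLib.Perm.Trans.Quad
open CfsgLib.PGroup.OrthIndex

variable {ι : Type} [Fintype ι] [DecidableEq ι] {F : Type*} [Field F] [Fintype F]

local notation "pol" => QuadraticMap.polar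

variable {Q : (ι → F) → F} (D : PairData Q) (hQ : IsNondegenerateQuadraticForm Q)
include hQ

variable {G : Subgroup ↥(eGroup Q)}

/-- Everything orthogonal to a centre, once the pairs and the small orthogonal are there. -/
theorem PairData.full_centre (hw : D.cyc hQ ∈ G) (hall : ∀ i, i < D.k → ∀ s, D.Both hQ G (D.e i) s ∧
      D.Both hQ G (D.f i) s) (z z' : ι → F) (hzz : (z = D.e 0 ∧ z' = D.f 0) ∨ (z = D.f 0 ∧ z' = D.e 0))
    (a : ι → F) (ha : pol Q z a = 0) : el hQ z a ∈ G := by
  classical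
  have hk : 0 < D.k := by have := D.two; omega
  have hQz : Q z = 0 := by
    rcases hzz with ⟨rfl, -⟩ | ⟨rfl, -⟩
    · exact D.qe 0 hk
    · exact D.qf 0 hk
  have hz' : z = D.e 0 ∨ z = D.f 0 := hzz.imp And.left And.left
  set S := full hQ G hQz with hSdef
  have hself : z ∈ S := ⟨pol_self_singular hQ hQz, fun t => by rw [el_self hQ hQz]; exact one_mem G⟩
  have hu : ∀ u, (u = D.u1 ∨ u = D.r D.u1) → u ∈ S := fun u hu => by
    refine ⟨?_, fun t => ?_⟩
    · rcases hu with rfl | rfl
      exacts [(D.pol_u1 hQ hk hz').1, (D.pol_u1 hQ hk hz').2]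
    · have h1 : D.Both hQ G z t := hz'.elim (fun h => h ▸ (hall 0 hk t).1) (fun h => h ▸ (hall 0 hk t).2)
      rcases hu with rfl | rfl
      exacts [h1.1, h1.2]
  obtain ⟨a₀, b₀, ha₀, hb₀, hab⟩ := D.exists_pol_ne hQ
  have hlong : ∀ y, (∃ j, 0 < j ∧ j < D.k ∧ (y = D.e j ∨ y = D.f j)) → y ∈ S := by
    rintro y ⟨j, hj0, hj, hy⟩
    have hQy : Q y = 0 := by
      rcases hy with rfl | rfl
      · exact D.qe j hj
      · exact D.qf j hj
    have hzy : pol Q z y = 0 := by
      rcases hz' with rfl | rfl <;> rcases hy with rfl | rfl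
      exacts [D.pee 0 j hk hj, D.pef' 0 j hk hj (by omega), D.pfe' hQ hk hj (by omega), D.pff 0 j hk hj]
    refine ⟨hzy, fun t => ?_⟩
    have hzu : ∀ w, z = w ∨ y = w → ∀ u, (u = D.u1 ∨ u = D.r D.u1) → pol Q w u = 0 := by
      rintro w (rfl | rfl) u hu <;> rcases hu with rfl | rfl
      exacts [(D.pol_u1 hQ hk hz').1, (D.pol_u1 hQ hk hz').2, (D.pol_u1 hQ hj hy).1, (D.pol_u1 hQ hj hy).2]
    set s := -t / pol Q b₀ a₀
    have hya : el hQ y (s • a₀) ∈ G := by
      have h1 : D.Both hQ G y s := hy.elim (fun h => h ▸ (hall j hj s).1) (fun h => h ▸ (hall j hj s).2)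
      rcases ha₀ with rfl | rfl
      exacts [h1.1, h1.2]
    have := mem_long hQ hQy hQz (by rw [pcomm, hzy]) (b := b₀)
      (by rw [psmul_right hQ, hzu y (Or.inr rfl) _ ha₀, mul_zero])
      (by rw [psmul_right hQ, hzu z (Or.inl rfl) _ ha₀, mul_zero]) (hzu y (Or.inr rfl) _ hb₀)
      (hzu z (Or.inl rfl) _ hb₀) hya (by simpa using (hu b₀ hb₀).2 1)
    rwa [psmul_right hQ, ← neg_mul, show -s * pol Q b₀ a₀ = t by
      rw [neg_mul, div_mul_cancel₀ _ hab, neg_neg]] at this
  set y := a - ∑ i ∈ Finset.range D.k, (pol Q a (D.f i) • D.e i + pol Q a (D.e i) • D.f i) with hy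
  have hyS : y ∈ S := Submodule.span_le.2 (by
    rintro u (rfl | hu')
    · exact hu _ (Or.inl rfl)
    · exact hu _ (Or.inr hu')) (D.span y fun j hj => D.residual hQ a j hj)
  have hterm : ∀ i ∈ Finset.range D.k, pol Q a (D.f i) • D.e i + pol Q a (D.e i) • D.f i ∈ S := by
    intro i hi
    rcases Nat.eq_zero_or_pos i with rfl | hpos
    · rcases hzz with ⟨rfl, -⟩ | ⟨rfl, -⟩
      · rw [pcomm a (D.e 0), ha, zero_smul, add_zero]; exact S.smul_mem _ hself
      · rw [pcomm a (D.f 0), ha, zero_smul, zero_add]; exact S.smul_mem _ hself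
    · have hi' := Finset.mem_range.1 hi
      exact S.add_mem (S.smul_mem _ (hlong _ ⟨i, hpos, hi', Or.inl rfl⟩))
        (S.smul_mem _ (hlong _ ⟨i, hpos, hi', Or.inr rfl⟩))
  have haS : a ∈ S := by
    have := S.add_mem hyS (S.sum_mem hterm)
    rwa [hy, sub_add_cancel] at this
  simpa using haS.2 1

/-- The criterion. -/
theorem PairData.eq_top (hw : D.cyc hQ ∈ G) {j : ℕ} (hj : j < D.k)
    (h : ∀ s, D.Both hQ G (D.e j) s) : G = ⊤ := by
  have hk : 0 < D.k := by omega
  obtain ⟨c, c', hc, hc', hall'⟩ := D.both_all hQ hw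
  have hall : ∀ i, i < D.k → ∀ s, D.Both hQ G (D.e i) s ∧ D.Both hQ G (D.f i) s := fun i hi s => by
    have h1 := (hall' hj (h (s / (c' * c))) i hi).1
    have h2 := (hall' hj (h (s / c)) i hi).2
    rw [← mul_assoc, mul_div_cancel₀ _ (mul_ne_zero hc' hc)] at h1
    rw [mul_div_cancel₀ _ hc] at h2
    exact ⟨h1, h2⟩
  have hE := D.full_centre hQ hw hall _ _ (Or.inl ⟨rfl, rfl⟩)
  have hF := D.full_centre hQ hw hall _ _ (Or.inr ⟨rfl, rfl⟩)
  -- a centre not orthogonal to the first vector of a pair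
  have gen : ∀ e f : ι → F, Q e = 0 → Q f = 0 → pol Q e f = 1 →
      (∀ a, pol Q e a = 0 → el hQ e a ∈ G) → (∀ a, pol Q f a = 0 → el hQ f a ∈ G) →
      ∀ u b, Q u = 0 → pol Q u b = 0 → pol Q u e ≠ 0 → el hQ u b ∈ G := by
    intro e f hQe hQf hef he hf u b hu hub hue
    set t := pol Q u e with ht
    set y := u - t • f - pol Q u f • e with hy
    have hfe : pol Q f e = 1 := by rw [pcomm, hef]
    have hye : pol Q y e = 0 := by
      rw [hy, psub_left hQ, psub_left hQ, psmul_left hQ, psmul_left hQ, hfe, pol_self_singular hQ hQe]; ring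
    have hyf : pol Q y f = 0 := by
      rw [hy, psub_left hQ, psub_left hQ, psmul_left hQ, psmul_left hQ, hef, pol_self_singular hQ hQf]; ring
    set a := t⁻¹ • y with ha
    have hea : pol Q e a = 0 := by rw [ha, psmul_right hQ, pcomm e y, hye, mul_zero]
    have hg := he a hea
    set g := el hQ e a
    have hgf : act g (t • f) = u := by
      have hu' : u = t • f + pol Q u f • e + y := by rw [hy]; abel
      have hQu : t * pol Q u f + Q y = 0 := by
        conv_rhs => rw [← hu, hu']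
        rw [qadd hQ, qadd hQ, qsmul hQ, qsmul hQ, hQe, hQf, padd_left hQ, psmul_left hQ, psmul_left hQ,
          psmul_left hQ, psmul_right hQ, hfe, pcomm f y, hyf, pcomm e y, hye]
        ring
      rw [act_el hQ hQe hea, psmul_left hQ, psmul_left hQ, hfe, ha, psmul_right hQ, pcomm f y, hyf,
        qsmul hQ, smul_smul]
      conv_rhs => rw [hu']
      rw [show pol Q u f = -Q y / t by field_simp; linear_combination hQu]
      match_scalars <;> field_simp <;> ring
    have hb : pol Q (t • f) (act g⁻¹ b) = 0 := by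
      rw [← pol_act g, hgf, act_act_inv, hub]
    have hfb : pol Q f (act g⁻¹ b) = 0 := by
      rw [psmul_left hQ, mul_eq_zero] at hb
      exact hb.resolve_left hue
    have h2 : el hQ (t • f) (act g⁻¹ b) ∈ G := by
      rw [el_smul_left hQ hQf t hfb]
      exact hf _ (by rw [psmul_right hQ, hfb, mul_zero])
    have h3 := mem_conj hQ hg (by rw [qsmul hQ, hQf, mul_zero]) hb h2
    rwa [hgf, act_act_inv] at h3
  have genE := gen _ _ (D.qe 0 hk) (D.qf 0 hk) (D.pef 0 hk) hE hF
  have genF := gen _ _ (D.qf 0 hk) (D.qe 0 hk) (D.pfe hQ hk) hF hE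
  rw [eq_top_iff, ← closure_el hQ, Subgroup.closure_le]
  rintro _ ⟨u, b, hu, hub, rfl⟩
  show el hQ u b ∈ G
  by_cases h1 : pol Q u (D.e 0) = 0
  · by_cases h2 : pol Q u (D.f 0) = 0
    · by_cases hu0 : u = 0
      · rw [hu0, el_zero_left hQ]; exact one_mem G
      obtain ⟨x, -, hxu⟩ := (ndOn_top hQ u trivial hu0).1
      set a := x - pol Q x (D.f 0) • D.e 0 - pol Q x (D.e 0) • D.f 0 with ha
      have hae : pol Q (D.e 0) a = 0 := by
        rw [ha, psub_right hQ, psub_right hQ, psmul_right hQ, psmul_right hQ, D.pef 0 hk,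
          pol_self_singular hQ (D.qe 0 hk), pcomm (D.e 0) x]; ring
      have hau : pol Q u a = pol Q x u := by
        rw [ha, psub_right hQ, psub_right hQ, psmul_right hQ, psmul_right hQ, h1, h2, pcomm u x]; ring
      set g := el hQ (D.e 0) a with hg
      have hgu : pol Q (act g u) (D.f 0) ≠ 0 := by
        rw [hg, act_el hQ (D.qe 0 hk) hae, h1, hau, psub_left hQ, psub_left hQ, padd_left hQ,
          psmul_left hQ, psmul_left hQ, psmul_left hQ, h2, D.pef 0 hk]
        simpa using hxu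
      have h3 := genF (act g u) (act g b) (by rw [Q_act (Q := Q), hu]) (by rw [pol_act, hub]) hgu
      have h4 := mem_conj hQ (inv_mem (hE a hae)) (by rw [Q_act (Q := Q), hu]) (by rw [pol_act, hub]) h3
      rwa [← hg, act_inv_act, act_inv_act] at h4
    · exact genF u b hu hub h2
  · exact genE u b hu hub h1

end CfsgLib.PGroup.OrthTwoGen
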