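import Cfsg.Agent.Lib.PGroup.OrthIndex.Basic

/-!
Hyperbolic pairs with a small orthogonal complement: the cycle used as a generator, and the
criterion for a subgroup to contain all Eichler transformations.
-/

set_option autoImplicit false
set_option linter.unusedSectionVars false

namespace CfsgLib.PGroup.OrthTwoGen

open scoped Matrix
open Matrix Cfsg.Geo CfsgLib.Perm.Asch CfsgLib.Perm.Trans CfsgLib.Perm.Trans.Quad
open CfsgLib.PGroup.OrthIndex

variable {ι : Type} [Fintype ι] [DecidableEq ι] {F : Type*} [Field F] [Fintype F]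

local notation "pol" => QuadraticMap.polar

/-- Orthogonal hyperbolic pairs and two vectors of their orthogonal. -/
structure PairData (Q : (ι → F) → F) where
  k : ℕ
  two : 2 ≤ k
  e : ℕ → ι → F
  f : ℕ → ι → F
  u0 : ι → F
  u1 : ι → F
  qe : ∀ i, i < k → Q (e i) = 0
  qf : ∀ i, i < k → Q (f i) = 0
  pee : ∀ i j, i < k → j < k → pol Q (e i) (e j) = 0
  pff : ∀ i j, i < k → j < k → pol Q (f i) (f j) = 0
  pef : ∀ i, i < k → pol Q (e i) (f i) = 1
  pef' : ∀ i j, i < k → j < k → i ≠ j → pol Q (e i) (f j) = 0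
  qu0 : Q u0 ≠ 0
  u0e : ∀ i, i < k → pol Q u0 (e i) = 0
  u0f : ∀ i, i < k → pol Q u0 (f i) = 0
  u1e : ∀ i, i < k → pol Q u1 (e i) = 0
  u1f : ∀ i, i < k → pol Q u1 (f i) = 0
  span : ∀ y, (∀ i, i < k → pol Q y (e i) = 0 ∧ pol Q y (f i) = 0) →
    y ∈ Submodule.span F {u1, u1 - (pol Q u1 u0 / Q u0) • u0}

variable {Q : (ι → F) → F} (D : PairData Q)

/-- Orthogonal to all the pairs. -/
def PairData.InU (y : ι → F) : Prop := ∀ i, i < D.k → pol Q y (D.e i) = 0 ∧ pol Q y (D.f i) = 0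

/-- The reflection at `u0`. -/
def PairData.r (y : ι → F) : ι → F := y - (pol Q y D.u0 / Q D.u0) • D.u0

variable (hQ : IsNondegenerateQuadraticForm Q)
include hQ

namespace PairData

theorem u0_mem : D.InU D.u0 := fun i hi => ⟨D.u0e i hi, D.u0f i hi⟩

theorem u1_mem : D.InU D.u1 := fun i hi => ⟨D.u1e i hi, D.u1f i hi⟩

theorem r_mem {y : ι → F} (hy : D.InU y) : D.InU (D.r y) := fun i hi => by
  constructor <;> rw [r, psub_left hQ, psmul_left hQ]
  · rw [(hy i hi).1, D.u0e i hi]; ring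
  · rw [(hy i hi).2, D.u0f i hi]; ring

theorem r_r (y : ι → F) : D.r (D.r y) = y := by
  have h := D.qu0
  simp only [r, psub_left hQ, psmul_left hQ, pself hQ D.u0]
  match_scalars <;> field_simp <;> ring

theorem pfe {i : ℕ} (hi : i < D.k) : pol Q (D.f i) (D.e i) = 1 := by rw [pcomm, D.pef i hi]

theorem pfe' {i j : ℕ} (hi : i < D.k) (hj : j < D.k) (h : i ≠ j) : pol Q (D.f i) (D.e j) = 0 := by
  rw [pcomm, D.pef' j i hj hi h.symm]

/-- The rotation of two neighbouring pairs. -/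
noncomputable def rot (i : ℕ) : ↥(eGroup Q) :=
  el hQ (D.e i) (D.f (i + 1)) * (el hQ (D.f i) (D.e (i + 1)) * el hQ (D.e i) (D.f (i + 1)))

theorem rot_values {i : ℕ} (h : i + 1 < D.k) :
    act (D.rot hQ i) (D.e i) = D.e (i + 1) ∧ act (D.rot hQ i) (D.e (i + 1)) = -D.e i ∧
      act (D.rot hQ i) (D.f i) = D.f (i + 1) ∧ act (D.rot hQ i) (D.f (i + 1)) = -D.f i ∧
      ∀ y, pol Q y (D.e i) = 0 → pol Q y (D.f i) = 0 → pol Q y (D.e (i + 1)) = 0 →
        pol Q y (D.f (i + 1)) = 0 → act (D.rot hQ i) y = y := by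
  have hi : i < D.k := by omega
  have ne : i ≠ i + 1 := by omega
  have a1 : pol Q (D.e i) (D.f (i + 1)) = 0 := D.pef' i (i + 1) hi h ne
  have a2 : pol Q (D.f i) (D.e (i + 1)) = 0 := D.pfe' hQ hi h ne
  have a3 : pol Q (D.e (i + 1)) (D.f i) = 0 := D.pef' (i + 1) i h hi ne.symm
  have a4 : pol Q (D.f (i + 1)) (D.e i) = 0 := D.pfe' hQ h hi ne.symm
  refine ⟨?_, ?_, ?_, ?_, fun y h1 h2 h3 h4 => ?_⟩ <;>
    simp only [rot, act_mul, act_el hQ (D.qe i hi) a1, act_el hQ (D.qf i hi) a2, D.qe _ h, D.qf _ h,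
      padd_left hQ, psub_left hQ, psmul_left hQ, D.pee _ _ hi hi, D.pee _ _ hi h, D.pee _ _ h hi,
      D.pee _ _ h h, D.pff _ _ hi hi, D.pff _ _ hi h, D.pff _ _ h hi, D.pff _ _ h h, D.pef i hi,
      D.pef _ h, D.pfe hQ hi, D.pfe hQ h, a1, a2, a3, a4, zero_mul, mul_zero, zero_smul, sub_zero,
      add_zero, one_smul, mul_one, zero_add, zero_sub]
  case refine_5 => rw [h1, h2, h3, h4]; simp
  all_goals module

/-- The Weyl element of the reflection at `u0` in one pair. -/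
noncomputable def flip (i : ℕ) : ↥(eGroup Q) :=
  el hQ (D.e i) D.u0 * (el hQ (D.f i) ((Q D.u0)⁻¹ • D.u0) * el hQ (D.e i) D.u0)

theorem flip_values {i : ℕ} (hi : i < D.k) :
    act (D.flip hQ i) (D.e i) = (-(Q D.u0)⁻¹) • D.f i ∧
      act (D.flip hQ i) (D.f i) = (-Q D.u0) • D.e i ∧
      ∀ y, pol Q y (D.e i) = 0 → pol Q y (D.f i) = 0 → act (D.flip hQ i) y = D.r y := by
  have a1 : pol Q (D.e i) D.u0 = 0 := by rw [pcomm, D.u0e i hi]
  have a2' : pol Q (D.f i) D.u0 = 0 := by rw [pcomm, D.u0f i hi]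
  have a2 : pol Q (D.f i) ((Q D.u0)⁻¹ • D.u0) = 0 := by rw [psmul_right hQ, a2', mul_zero]
  have h0 := D.qu0
  refine ⟨?_, ?_, fun y h1 h2 => ?_⟩ <;>
    simp only [flip, r, act_mul, act_el hQ (D.qe i hi) a1, act_el hQ (D.qf i hi) a2, qsmul hQ,
      padd_left hQ, psub_left hQ, psmul_left hQ, psmul_right hQ, D.pee _ _ hi hi,
      D.pff _ _ hi hi, D.pef i hi, D.pfe hQ hi, a1, a2', D.u0e i hi, D.u0f i hi, pself hQ D.u0]
  case refine_3 => rw [h1, h2]; match_scalars <;> field_simp <;> ring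
  all_goals match_scalars <;> field_simp <;> ring

/-- The chain of rotations ending in a flip. -/
noncomputable def chain : ℕ → ℕ → ↥(eGroup Q)
  | a, 0 => D.flip hQ a
  | a, d + 1 => D.rot hQ a * chain (a + 1) d

theorem chain_values : ∀ (d a : ℕ), a + d < D.k → ∃ c c' : F, c ≠ 0 ∧ c' ≠ 0 ∧
    (∀ i, a ≤ i → i < a + d → act (D.chain hQ a d) (D.e i) = D.e (i + 1) ∧
      act (D.chain hQ a d) (D.f i) = D.f (i + 1)) ∧
    act (D.chain hQ a d) (D.e (a + d)) = c • D.f a ∧ act (D.chain hQ a d) (D.f (a + d)) = c' • D.e a ∧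
    (∀ i, i < a → act (D.chain hQ a d) (D.e i) = D.e i ∧ act (D.chain hQ a d) (D.f i) = D.f i) ∧
    ∀ y, D.InU y → act (D.chain hQ a d) y = D.r y := by
  intro d
  induction d with
  | zero =>
    intro a ha
    obtain ⟨h1, h2, h3⟩ := D.flip_values hQ (i := a) ha
    refine ⟨_, _, neg_ne_zero.2 (inv_ne_zero D.qu0), neg_ne_zero.2 D.qu0,
      fun i h h' => by omega, h1, h2, fun i hi => ?_, fun y hy => h3 y (hy a ha).1 (hy a ha).2⟩
    have hik : i < D.k := by omega
    rw [Nat.add_zero] at ha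
    constructor
    · show act (D.flip hQ a) (D.e i) = D.e i
      rw [h3 _ (D.pee i a hik ha) (D.pef' i a hik ha (by omega)), r, pcomm, D.u0e i hik]; simp
    · show act (D.flip hQ a) (D.f i) = D.f i
      rw [h3 _ (D.pfe' hQ hik ha (by omega)) (D.pff i a hik ha), r, pcomm, D.u0f i hik]; simp
  | succ d ih =>
    intro a ha
    obtain ⟨c, c', hc, hc', hmid, hle, hlf, hlow, hU⟩ := ih (a + 1) (by omega)
    obtain ⟨r1, r2, r3, r4, r5⟩ := D.rot_values hQ (i := a) (by omega)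
    have ha' : a < D.k := by omega
    have ha1 : a + 1 < D.k := by omega
    have hfix : ∀ i, i < D.k → i ≠ a → i ≠ a + 1 →
        act (D.rot hQ a) (D.e i) = D.e i ∧ act (D.rot hQ a) (D.f i) = D.f i := fun i hi n1 n2 =>
      ⟨r5 _ (D.pee i a hi ha') (D.pef' i a hi ha' n1) (D.pee i _ hi ha1) (D.pef' i _ hi ha1 n2),
        r5 _ (D.pfe' hQ hi ha' n1) (D.pff i a hi ha') (D.pfe' hQ hi ha1 n2) (D.pff i _ hi ha1)⟩
    refine ⟨-c, -c', neg_ne_zero.2 hc, neg_ne_zero.2 hc', fun i h h' => ?_, ?_, ?_, fun i hi => ?_,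
      fun y hy => ?_⟩
    · rcases eq_or_lt_of_le h with rfl | hlt
      · simp only [chain, act_mul, (hlow a (by omega)).1, (hlow a (by omega)).2]
        exact ⟨r1, r3⟩
      · simp only [chain, act_mul, (hmid i hlt (by omega)).1, (hmid i hlt (by omega)).2]
        exact hfix (i + 1) (by omega) (by omega) (by omega)
    · simp only [chain, act_mul]
      rw [show a + (d + 1) = a + 1 + d by omega, hle, act_smul, r4]; module
    · simp only [chain, act_mul]
      rw [show a + (d + 1) = a + 1 + d by omega, hlf, act_smul, r2]; module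
    · simp only [chain, act_mul, (hlow i (by omega)).1, (hlow i (by omega)).2]
      exact hfix i (by omega) (by omega) (by omega)
    · simp only [chain, act_mul]
      rw [hU y hy, r5 _ ((D.r_mem hQ hy) a ha').1 ((D.r_mem hQ hy) a ha').2
        ((D.r_mem hQ hy) _ ha1).1 ((D.r_mem hQ hy) _ ha1).2]

/-- The cycle on all the pairs. -/
noncomputable def cyc : ↥(eGroup Q) := D.chain hQ 0 (D.k - 1)

theorem cyc_values : ∃ c c' : F, c ≠ 0 ∧ c' ≠ 0 ∧
    (∀ i, i + 1 < D.k → act (D.cyc hQ) (D.e i) = D.e (i + 1) ∧ act (D.cyc hQ) (D.f i) = D.f (i + 1)) ∧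
    act (D.cyc hQ) (D.e (D.k - 1)) = c • D.f 0 ∧ act (D.cyc hQ) (D.f (D.k - 1)) = c' • D.e 0 ∧
    ∀ y, D.InU y → act (D.cyc hQ) y = D.r y := by
  have := D.two
  obtain ⟨c, c', hc, hc', hmid, hle, hlf, -, hU⟩ := D.chain_values hQ (D.k - 1) 0 (by omega)
  rw [Nat.zero_add] at hle hlf
  exact ⟨c, c', hc, hc', fun i hi => hmid i (Nat.zero_le i) (by omega), hle, hlf, hU⟩

end PairData

/-- The vectors whose transformations at `z`, with all scalars, lie in `G`. -/
def full (G : Subgroup ↥(eGroup Q)) {z : ι → F} (hz : Q z = 0) : Submodule F (ι → F) where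
  carrier := {a | pol Q z a = 0 ∧ ∀ t : F, el hQ z (t • a) ∈ G}
  zero_mem' := ⟨pzero_right hQ z, fun t => by rw [smul_zero, el_zero hQ hz]; exact one_mem G⟩
  add_mem' := fun {a b} ha hb => ⟨by rw [padd_right hQ, ha.1, hb.1, add_zero], fun t => by
    rw [smul_add, el_add hQ hz (by rw [psmul_right hQ, ha.1, mul_zero])
      (by rw [psmul_right hQ, hb.1, mul_zero])]
    exact mul_mem (ha.2 t) (hb.2 t)⟩
  smul_mem' := fun c a ha => ⟨by rw [psmul_right hQ, ha.1, mul_zero], fun t => by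
    rw [smul_smul]; exact ha.2 _⟩

variable {G : Subgroup ↥(eGroup Q)}

theorem mem_conj {g : ↥(eGroup Q)} (hg : g ∈ G) {z a : ι → F} (hz : Q z = 0) (ha : pol Q z a = 0)
    (h : el hQ z a ∈ G) : el hQ (act g z) (act g a) ∈ G := by
  rw [← el_conj hQ g hz ha]; exact mul_mem (mul_mem hg h) (inv_mem hg)

theorem el_mem_neg {z a : ι → F} (hz : Q z = 0) (ha : pol Q z a = 0) (h : el hQ z a ∈ G) :
    el hQ z (-a) ∈ G := by
  rw [el_neg hQ hz ha]; exact inv_mem h

/-- Two transformations with orthogonal centres give one in the plane of the centres. -/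
theorem mem_long {z z' a b : ι → F} (hz : Q z = 0) (hz' : Q z' = 0) (hzz : pol Q z z' = 0)
    (hza : pol Q z a = 0) (hza' : pol Q z' a = 0) (hzb : pol Q z b = 0) (hzb' : pol Q z' b = 0)
    (h : el hQ z a ∈ G) (h' : el hQ z' b ∈ G) : el hQ z' ((-pol Q b a) • z) ∈ G := by
  have h1 := mem_conj hQ h hz' hzb' h'
  rw [act_el hQ hz hza, act_el hQ hz hza, pcomm z' z, hzz, hza', pcomm b z, hzb] at h1
  simp only [zero_smul, add_zero, sub_zero, mul_zero] at h1
  have e : (-pol Q b a) • z = -b + (b - pol Q b a • z) := by module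
  rw [e, el_add hQ hz' (by rw [pneg_right hQ, hzb', neg_zero])
    (by rw [psub_right hQ, psmul_right hQ, hzb', pcomm z' z, hzz]; ring)]
  exact mul_mem (el_mem_neg hQ hz' hzb' h') h1

namespace PairData

/-- The parameters at `z` for both vectors. -/
def Both (G : Subgroup ↥(eGroup Q)) (z : ι → F) (s : F) : Prop :=
  el hQ z (s • D.u1) ∈ G ∧ el hQ z (s • D.r D.u1) ∈ G

theorem both_shift (hw : D.cyc hQ ∈ G) {z z' : ι → F} {c s : F} (hz : Q z = 0) (hc : c ≠ 0)
    (hQz' : Q z' = 0) (hzz : act (D.cyc hQ) z = c • z') (h1 : pol Q z D.u1 = 0)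
    (h2 : pol Q z (D.r D.u1) = 0) (h : D.Both hQ G z s) : D.Both hQ G z' (c * s) := by
  obtain ⟨-, -, -, -, -, -, -, hU⟩ := D.cyc_values hQ
  have e1 := mem_conj hQ hw hz (by rw [psmul_right hQ, h1, mul_zero]) h.1
  have e2 := mem_conj hQ hw hz (by rw [psmul_right hQ, h2, mul_zero]) h.2
  have p1 : pol Q z' (D.r D.u1) = 0 := by
    have := pol_act (D.cyc hQ) z D.u1
    rw [hzz, hU _ (D.u1_mem hQ), psmul_left hQ, h1, mul_eq_zero] at this
    exact this.resolve_left hc
  have p2 : pol Q z' D.u1 = 0 := by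
    have := pol_act (D.cyc hQ) z (D.r D.u1)
    rw [hzz, hU _ (D.r_mem hQ (D.u1_mem hQ)), D.r_r hQ, psmul_left hQ, h2, mul_eq_zero] at this
    exact this.resolve_left hc
  rw [hzz, act_smul, hU _ (D.u1_mem hQ), el_smul_left hQ hQz' _ (by rw [psmul_right hQ, p1, mul_zero]),
    smul_smul] at e1
  rw [hzz, act_smul, hU _ (D.r_mem hQ (D.u1_mem hQ)), D.r_r hQ,
    el_smul_left hQ hQz' _ (by rw [psmul_right hQ, p2, mul_zero]), smul_smul] at e2
  exact ⟨e2, e1⟩

theorem pol_u1 {z : ι → F} {i : ℕ} (hi : i < D.k) (hz : z = D.e i ∨ z = D.f i) :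
    pol Q z D.u1 = 0 ∧ pol Q z (D.r D.u1) = 0 := by
  rcases hz with rfl | rfl
  · exact ⟨by rw [pcomm, D.u1e i hi], by rw [pcomm, ((D.r_mem hQ (D.u1_mem hQ)) i hi).1]⟩
  · exact ⟨by rw [pcomm, D.u1f i hi], by rw [pcomm, ((D.r_mem hQ (D.u1_mem hQ)) i hi).2]⟩

/-- From one pair of parameters to all the pairs. -/
theorem both_all (hw : D.cyc hQ ∈ G) :
    ∃ c c' : F, c ≠ 0 ∧ c' ≠ 0 ∧ ∀ {j : ℕ} {s : F}, j < D.k → D.Both hQ G (D.e j) s →
      ∀ i, i < D.k → D.Both hQ G (D.e i) (c' * (c * s)) ∧ D.Both hQ G (D.f i) (c * s) := by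
  obtain ⟨c, c', hc, hc', hmid, hle, hlf, -⟩ := D.cyc_values hQ
  have hk := D.two
  refine ⟨c, c', hc, hc', fun {j s} hj h => ?_⟩
  have upE : ∀ {t : F} (d i : ℕ), i + d < D.k → D.Both hQ G (D.e i) t → D.Both hQ G (D.e (i + d)) t := by
    intro t d
    induction d with
    | zero => intro i _ h; exact h
    | succ d ih =>
      intro i hi h
      have := D.both_shift hQ hw (D.qe _ (by omega)) one_ne_zero (D.qe _ hi)
        (by rw [(hmid (i + d) (by omega)).1, one_smul, Nat.add_assoc])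
        (D.pol_u1 hQ (i := i + d) (by omega) (Or.inl rfl)).1
        (D.pol_u1 hQ (i := i + d) (by omega) (Or.inl rfl)).2 (ih i (by omega) h)
      rwa [one_mul] at this
  have upF : ∀ {t : F} (d i : ℕ), i + d < D.k → D.Both hQ G (D.f i) t → D.Both hQ G (D.f (i + d)) t := by
    intro t d
    induction d with
    | zero => intro i _ h; exact h
    | succ d ih =>
      intro i hi h
      have := D.both_shift hQ hw (D.qf _ (by omega)) one_ne_zero (D.qf _ hi)
        (by rw [(hmid (i + d) (by omega)).2, one_smul, Nat.add_assoc])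
        (D.pol_u1 hQ (i := i + d) (by omega) (Or.inr rfl)).1
        (D.pol_u1 hQ (i := i + d) (by omega) (Or.inr rfl)).2 (ih i (by omega) h)
      rwa [one_mul] at this
  have h1 : D.Both hQ G (D.e (D.k - 1)) s := by
    have := upE (D.k - 1 - j) j (by omega) h
    rwa [show j + (D.k - 1 - j) = D.k - 1 by omega] at this
  have h2 : D.Both hQ G (D.f 0) (c * s) := D.both_shift hQ hw (D.qe _ (by omega)) hc (D.qf _ (by omega))
    hle (D.pol_u1 hQ (i := D.k - 1) (by omega) (Or.inl rfl)).1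
    (D.pol_u1 hQ (i := D.k - 1) (by omega) (Or.inl rfl)).2 h1
  have h3 : D.Both hQ G (D.e 0) (c' * (c * s)) := by
    have h4 := upF (D.k - 1) 0 (by omega) h2
    rw [Nat.zero_add] at h4
    exact D.both_shift hQ hw (D.qf _ (by omega)) hc' (D.qe _ (by omega)) hlf
      (D.pol_u1 hQ (i := D.k - 1) (by omega) (Or.inr rfl)).1
      (D.pol_u1 hQ (i := D.k - 1) (by omega) (Or.inr rfl)).2 h4
  intro i hi
  have h5 := upE i 0 (by omega) h3
  have h6 := upF i 0 (by omega) h2
  rw [Nat.zero_add] at h5 h6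
  exact ⟨h5, h6⟩

theorem residual (x : ι → F) (j : ℕ) (hj : j < D.k) :
    pol Q (x - ∑ i ∈ Finset.range D.k, (pol Q x (D.f i) • D.e i + pol Q x (D.e i) • D.f i)) (D.e j) = 0 ∧
      pol Q (x - ∑ i ∈ Finset.range D.k, (pol Q x (D.f i) • D.e i + pol Q x (D.e i) • D.f i)) (D.f j) = 0 := by
  have hsum : ∀ y, pol Q (∑ i ∈ Finset.range D.k, (pol Q x (D.f i) • D.e i + pol Q x (D.e i) • D.f i)) y =
      ∑ i ∈ Finset.range D.k, pol Q (pol Q x (D.f i) • D.e i + pol Q x (D.e i) • D.f i) y := fun y => by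
    show pfl hQ y (∑ i ∈ Finset.range D.k, (pol Q x (D.f i) • D.e i + pol Q x (D.e i) • D.f i)) = _
    rw [map_sum]; rfl
  constructor <;> rw [psub_left hQ, hsum, Finset.sum_eq_single j]
  · rw [padd_left hQ, psmul_left hQ, psmul_left hQ, D.pee j j hj hj, D.pfe hQ hj]; ring
  · intro i hi hne
    rw [padd_left hQ, psmul_left hQ, psmul_left hQ, D.pee i j (Finset.mem_range.1 hi) hj,
      D.pfe' hQ (Finset.mem_range.1 hi) hj hne]; ring
  · exact fun h => (h (Finset.mem_range.2 hj)).elim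
  · rw [padd_left hQ, psmul_left hQ, psmul_left hQ, D.pff j j hj hj, D.pef j hj]; ring
  · intro i hi hne
    rw [padd_left hQ, psmul_left hQ, psmul_left hQ, D.pff i j (Finset.mem_range.1 hi) hj,
      D.pef' i j (Finset.mem_range.1 hi) hj hne]; ring
  · exact fun h => (h (Finset.mem_range.2 hj)).elim

theorem exists_pol_ne : ∃ a b : ι → F, (a = D.u1 ∨ a = D.r D.u1) ∧ (b = D.u1 ∨ b = D.r D.u1) ∧
    pol Q b a ≠ 0 := by
  by_contra hcon
  simp only [not_exists, not_and, not_not, ne_eq] at hcon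
  set S := Submodule.span F ({D.u1, D.r D.u1} : Set (ι → F))
  have hS : ∀ a ∈ S, ∀ b ∈ S, pol Q b a = 0 := by
    intro a ha b hb
    induction ha using Submodule.span_induction with
    | zero => exact pzero_right hQ b
    | add x y _ _ hx hy => rw [padd_right hQ, hx, hy, add_zero]
    | smul c x _ hx => rw [psmul_right hQ, hx, mul_zero]
    | mem x hx =>
      induction hb using Submodule.span_induction with
      | zero => exact pzero_left hQ x
      | add y z _ _ hy hz => rw [padd_left hQ, hy, hz, add_zero]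
      | smul c y _ hy => rw [psmul_left hQ, hy, mul_zero]
      | mem y hy => exact hcon x y hx hy
  have hu : D.u0 ∈ S := D.span _ (D.u0_mem hQ)
  obtain ⟨x, -, hx⟩ := (ndOn_top hQ D.u0 trivial (fun h => D.qu0 (by rw [h, qzero hQ]))).1
  have hsum : ∀ i ∈ Finset.range D.k, pol Q (pol Q x (D.f i) • D.e i + pol Q x (D.e i) • D.f i) D.u0 = 0 :=
    fun i hi => by
      have hi' := Finset.mem_range.1 hi
      rw [padd_left hQ, psmul_left hQ, psmul_left hQ, pcomm (D.e i), D.u0e i hi', pcomm (D.f i),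
        D.u0f i hi']
      ring
  refine hx ?_
  have hz : (x - ∑ i ∈ Finset.range D.k, (pol Q x (D.f i) • D.e i + pol Q x (D.e i) • D.f i)) ∈ S :=
    D.span _ fun j hj => D.residual hQ x j hj
  have := hS _ hu _ hz
  rwa [psub_left hQ, show pol Q (∑ i ∈ Finset.range D.k, (pol Q x (D.f i) • D.e i +
    pol Q x (D.e i) • D.f i)) D.u0 = 0 by
      rw [show pol Q (∑ i ∈ Finset.range D.k, (pol Q x (D.f i) • D.e i + pol Q x (D.e i) • D.f i)) D.u0 =
        pfl hQ D.u0 (∑ i ∈ Finset.range D.k, (pol Q x (D.f i) • D.e i + pol Q x (D.e i) • D.f i)) from rfl,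
        map_sum]
      exact Finset.sum_eq_zero hsum, sub_zero] at this

end PairData

end CfsgLib.PGroup.OrthTwoGen
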