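import Mathlib.FieldTheory.Finite.Basic
import Mathlib.LinearAlgebra.Matrix.Notation
import Mathlib.LinearAlgebra.Matrix.CharP
import Mathlib.RingTheory.IntegralDomain
import Mathlib.Algebra.CharP.Two

/-!
The order of a companion matrix with separable polynomial, and additive generation of a finite field.
-/

set_option autoImplicit false

namespace CfsgLib.PGroup.OrthTwoGen

open Matrix

variable {F : Type*} [Field F] [Fintype F]

/-- The companion matrix of `X² + c X + 1`. -/
def comp (c : F) : Matrix (Fin 2) (Fin 2) F := !![0, -1; 1, -c]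

omit [Fintype F] in
theorem comp_sq (c : F) : comp c * comp c = -(c • comp c) - 1 := by
  ext i j; fin_cases i <;> fin_cases j <;> simp [comp, Matrix.mul_apply, Fin.sum_univ_two] <;> ring

omit [Fintype F] in
theorem comp_pow_span (c : F) (n : ℕ) : ∃ a b : F, comp c ^ n = a • comp c + b • 1 := by
  induction n with
  | zero => exact ⟨0, 1, by simp⟩
  | succ n ih =>
    obtain ⟨a, b, h⟩ := ih
    refine ⟨b - a * c, -a, ?_⟩
    rw [pow_succ, h, add_mul, smul_mul_assoc, smul_mul_assoc, one_mul, comp_sq]
    module

/-- The companion matrix is semisimple: its order divides `q² - 1`. -/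
theorem comp_pow_sq_sub_one {c : F} (h1 : c ≠ 2) (h2 : c ≠ -2) :
    comp c ^ (Fintype.card F ^ 2 - 1) = 1 := by
  classical
  set q := Fintype.card F with hq
  obtain ⟨p, hp⟩ := CharP.exists F
  haveI : Fact p.Prime := ⟨CharP.char_is_prime F p⟩
  obtain ⟨n, -, hn⟩ := FiniteField.card F p
  set M := comp c with hM
  -- two ways of reaching the fixed point
  suffices hfix : M ^ q = M ∨ M ^ q = -M - c • 1 by
    have hadd : ∀ A B : Matrix (Fin 2) (Fin 2) F, Commute A B → (A + B) ^ q = A ^ q + B ^ q :=
      fun A B h => by rw [hq, hn]; exact add_pow_char_pow_of_commute _ _ h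
    have hsc : ∀ s : F, (s • (1 : Matrix (Fin 2) (Fin 2) F)) ^ q = s • 1 := fun s => by
      rw [smul_pow, one_pow, hq, FiniteField.pow_card]
    have hqq : M ^ (q ^ 2) = M := by
      rw [pow_two, pow_mul]
      rcases hfix with h | h
      · rw [h, h]
      · rw [h, sub_eq_add_neg, hadd _ _ (((Commute.one_right _).smul_right c).neg_right), ← neg_smul,
          hsc, show (-M) ^ q = (-1 : F) ^ q • M ^ q by
            rw [← smul_pow, neg_smul, one_smul], h, FiniteField.pow_card]
        module
    have hu : IsUnit M := (Matrix.isUnit_iff_isUnit_det _).2 (by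
      simp [hM, comp, Matrix.det_fin_two])
    have hq1 : 1 ≤ q ^ 2 := Nat.one_le_pow _ _ Fintype.card_pos
    refine hu.mul_right_cancel ?_
    rw [← pow_succ, Nat.sub_add_cancel hq1, hqq, one_mul]
  have h20 : (2 : F) = 0 ∨ (2 : F) ≠ 0 := em _
  rcases h20 with h2' | h2'
  · -- characteristic two
    obtain ⟨a, b, hab⟩ := comp_pow_span c q
    have hc : c ≠ 0 := fun h => h1 (by rw [h, h2'])
    have hsq : M ^ q * M ^ q = -(c • M ^ q) - 1 := by
      have hadd : ∀ A B : Matrix (Fin 2) (Fin 2) F, Commute A B → (A + B) ^ q = A ^ q + B ^ q :=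
        fun A B h => by rw [hq, hn]; exact add_pow_char_pow_of_commute _ _ h
      rw [← Commute.mul_pow (Commute.refl M), comp_sq, sub_eq_add_neg,
        hadd _ _ ((Commute.one_right _).neg_right), ← neg_smul, smul_pow, hq, FiniteField.pow_card,
        show (-1 : Matrix (Fin 2) (Fin 2) F) = (-1 : F) • 1 by simp, smul_pow, one_pow, FiniteField.pow_card]
      module
    rw [hab] at hsq
    have e10 := congrFun (congrFun hsq 1) 0
    have e00 := congrFun (congrFun hsq 0) 0
    simp [hM, comp, Matrix.mul_apply, Fin.sum_univ_two] at e10 e00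
    have ha : a * (a + 1) = 0 := by
      refine mul_left_cancel₀ hc ?_
      linear_combination e10 + (a ^ 2 * c - b * a) * h2'
    rcases mul_eq_zero.1 ha with h | h
    · exfalso
      rw [h, zero_smul, zero_add] at hab
      have hMb : (M + b • 1) ^ q = 0 := by
        rw [hq, hn, add_pow_char_pow_of_commute _ _ ((Commute.one_right M).smul_right b), ← hn, ← hq,
          hab, smul_pow, one_pow, hq, FiniteField.pow_card, ← add_smul,
          show b + b = 0 by linear_combination b * h2', zero_smul]
      rw [h] at e00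
      simp at e00
      have hNN : (M + b • 1) * (M + b • 1) = c • (M + b • 1) := by
        rw [add_mul, mul_add, mul_add, comp_sq]
        simp only [smul_mul_assoc, mul_smul_comm, one_mul, mul_one, smul_smul]
        match_scalars
        · linear_combination (b - c) * h2'
        · linear_combination e00 - (1 + b * c) * h2'
      have hpow : ∀ m, (M + b • 1) ^ (m + 1) = c ^ m • (M + b • 1) := fun m => by
        induction m with
        | zero => simp
        | succ m ih => rw [pow_succ, ih, smul_mul_assoc, hNN, smul_smul, pow_succ]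
      obtain ⟨m, hm⟩ : ∃ m, q = m + 1 := ⟨q - 1, (Nat.sub_add_cancel Fintype.card_pos).symm⟩
      rw [hm, hpow] at hMb
      have := congrFun (congrFun hMb 1) 0
      simp [hM, comp, hc] at this
    · have ha1 : a = 1 := by linear_combination h - h2'
      rw [ha1, one_smul] at hab
      rw [ha1] at e00
      have hb : b * (b + c) = 0 := by linear_combination e00
      rcases mul_eq_zero.1 hb with hb | hb
      · exact Or.inl (by rw [hab, hb, zero_smul, add_zero])
      · refine Or.inr ?_
        rw [hab, show b = -c by linear_combination hb]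
        rw [show M + -c • (1 : Matrix (Fin 2) (Fin 2) F) = (1 : F) • M + -c • 1 by rw [one_smul],
          show (1 : F) = -1 by linear_combination h2']
        module
  · -- odd characteristic
    set D := (2 : F) • M + c • (1 : Matrix (Fin 2) (Fin 2) F) with hD
    have hd : D * D = (c * c - 4) • 1 := by
      rw [hD, add_mul, mul_add, mul_add]
      simp only [smul_mul_assoc, mul_smul_comm, one_mul, mul_one, smul_smul, comp_sq, hM]
      module
    have hd0 : c * c - 4 ≠ 0 := fun h => by
      have : (c - 2) * (c + 2) = 0 := by linear_combination h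
      rcases mul_eq_zero.1 this with h | h
      · exact h1 (sub_eq_zero.1 h)
      · exact h2 (eq_neg_of_add_eq_zero_left h)
    have hodd : Odd q := by
      refine Nat.odd_iff.2 (FiniteField.odd_card_of_char_ne_two fun h => h2' ?_)
      haveI := ringChar.of_eq h
      exact CharTwo.two_eq_zero
    obtain ⟨m, hm⟩ := hodd
    have hDq : D ^ q = ((c * c - 4) ^ m) • D := by
      rw [hm, pow_succ, pow_mul, pow_two, hd, smul_pow, one_pow, smul_mul_assoc, one_mul]
    have hDq' : D ^ q = (2 : F) • M ^ q + c • 1 := by
      rw [hD, hq, hn, add_pow_char_pow_of_commute _ _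
        (((Commute.one_right M).smul_right c).smul_left (2 : F)), smul_pow, smul_pow, one_pow, ← hn,
        FiniteField.pow_card, FiniteField.pow_card]
    have he := FiniteField.pow_dichotomy (F := F) (fun h => h2' (by
      haveI := ringChar.of_eq h
      exact CharTwo.two_eq_zero)) hd0
    rw [show Fintype.card F / 2 = m by omega] at he
    have hcan : ∀ A B : Matrix (Fin 2) (Fin 2) F, (2 : F) • A = (2 : F) • B → A = B := fun A B h =>
      (smul_right_injective _ h2') h
    rw [hDq] at hDq'
    rcases he with h | h <;> rw [h] at hDq'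
    · left
      refine hcan _ _ ?_
      rw [one_smul, hD] at hDq'
      exact add_right_cancel hDq'.symm
    · right
      refine hcan _ _ ?_
      rw [eq_sub_of_add_eq hDq'.symm, hD]
      module

/-- An additive subgroup containing one and stable under a suitable scalar is everything. -/
theorem addSubgroup_top {c : F} (hc : (∀ t : F, ∃ n : ℕ, t = n) ∨ ∀ t : F, t ≠ 0 → ∃ n : ℕ, t = c ^ n)
    (A : AddSubgroup F) (h1 : (1 : F) ∈ A) (hmul : ∀ t ∈ A, c * t ∈ A) : ∀ t, t ∈ A := by
  intro t
  rcases hc with hc | hc
  · obtain ⟨n, rfl⟩ := hc t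
    rw [← nsmul_one]
    exact A.nsmul_mem h1 n
  · rcases eq_or_ne t 0 with rfl | ht
    · exact A.zero_mem
    obtain ⟨n, rfl⟩ := hc t ht
    clear ht
    induction n with
    | zero => rw [pow_zero]; exact h1
    | succ n ih => rw [pow_succ']; exact hmul _ ih

/-- A scalar generating the field and different from `±2`. -/
theorem exists_trace : ∃ c : F, c ≠ 2 ∧ c ≠ -2 ∧
    ((∀ t : F, ∃ n : ℕ, t = n) ∨ ∀ t : F, t ≠ 0 → ∃ n : ℕ, t = c ^ n) := by
  classical
  obtain ⟨p, hp⟩ := CharP.exists F
  haveI hpp : Fact p.Prime := ⟨CharP.char_is_prime F p⟩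
  obtain ⟨n, -, hn⟩ := FiniteField.card F p
  rcases eq_or_ne (n : ℕ) 1 with h1 | h1
  · have hpr : ∀ t : F, ∃ k : ℕ, t = k := by
      have hb : Function.Bijective (ZMod.castHom (dvd_refl p) F) := by
        refine (Fintype.bijective_iff_injective_and_card _).2 ⟨RingHom.injective _, ?_⟩
        rw [ZMod.card, hn, h1, pow_one]
      intro t
      obtain ⟨z, rfl⟩ := hb.2 t
      exact ⟨z.val, by rw [ZMod.castHom_apply, ZMod.cast_eq_val]⟩
    by_cases h2 : (2 : F) = 0
    · exact ⟨1, by rw [h2]; exact one_ne_zero, by rw [h2, neg_zero]; exact one_ne_zero, Or.inl hpr⟩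
    · exact ⟨0, Ne.symm h2, fun h => h2 (neg_eq_zero.1 h.symm), Or.inl hpr⟩
  · obtain ⟨ω, hω⟩ := IsCyclic.exists_generator (α := Fˣ)
    have key : ∀ z : ZMod p, (ω : F) ≠ ZMod.castHom (dvd_refl p) F z := by
      intro z hz
      have hz0 : z ≠ 0 := fun h => ω.ne_zero (by rw [hz, h, map_zero])
      have hpow : (ω : F) ^ (p - 1) = 1 := by
        rw [hz, ← map_pow, ZMod.pow_card_sub_one_eq_one hz0, map_one]
      have hord : orderOf ω = Fintype.card Fˣ := orderOf_eq_card_of_forall_mem_zpowers hω ▸ Nat.card_eq_fintype_card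
      have hdvd : orderOf ω ∣ p - 1 := orderOf_dvd_of_pow_eq_one (Units.ext (by simpa using hpow))
      have hle := Nat.le_of_dvd (by have := hpp.out.two_le; omega) hdvd
      rw [hord, Fintype.card_units, hn] at hle
      have : p ^ 2 ≤ p ^ (n : ℕ) := Nat.pow_le_pow_right hpp.out.pos (by have := n.pos; omega)
      have := hpp.out.two_le
      have : 2 * p ≤ p ^ 2 := by rw [sq]; exact Nat.mul_le_mul_right _ hpp.out.two_le
      omega
    refine ⟨ω, fun h => key 2 (by rw [h, map_ofNat]), fun h => key (-2) (by rw [h, map_neg, map_ofNat]),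
      Or.inr fun t ht => ?_⟩
    obtain ⟨k, hk⟩ := (mem_powers_iff_mem_zpowers.2 (hω (Units.mk0 t ht)) :
      Units.mk0 t ht ∈ Submonoid.powers ω)
    exact ⟨k, by simpa using (congrArg Units.val hk).symm⟩

end CfsgLib.PGroup.OrthTwoGen
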