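import Cfsg.Agent.Lib.PGroup.OrthTwoGen.Finish
import Cfsg.Agent.Lib.PGroup.OrthTwoGen.Order
import Cfsg.Agent.Lib.PGroup.OrthIndex.Torus

/-!
Two generators for the group of the Eichler transformations.
-/

set_option autoImplicit false
set_option linter.unusedSectionVars false

namespace CfsgLib.PGroup.OrthTwoGen

open scoped Matrix
open Matrix Cfsg.Geo CfsgLib.Perm.Asch CfsgLib.Perm.Trans CfsgLib.Perm.Trans.Quad
open CfsgLib.PGroup.OrthIndex

variable {ι : Type} [Fintype ι] [DecidableEq ι] {F : Type*} [Field F] [Fintype F]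

local notation "pol" => QuadraticMap.polar

/-- Separating commuting elements of coprime orders. -/
theorem mem_of_mul {Γ : Type*} [Group Γ] {G : Subgroup Γ} {x g : Γ} (hxg : Commute x g) {p m : ℕ}
    (hx : x ^ p = 1) (hg : g ^ m = 1) (hcop : m.Coprime p) (h : x * g ∈ G) : x ∈ G ∧ g ∈ G := by
  have hxm : x ^ m ∈ G := by
    have h1 := G.pow_mem h m
    rwa [hxg.mul_pow, hg, mul_one] at h1
  have hb : (m : ℤ) * m.gcdA p + p * m.gcdB p = 1 := by
    rw [← Nat.gcd_eq_gcd_ab, hcop, Nat.cast_one]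
  have hx1 : x = (x ^ m) ^ m.gcdA p := by
    conv_lhs => rw [← zpow_one x, ← hb, _root_.zpow_add, _root_.zpow_mul, _root_.zpow_mul, zpow_natCast, zpow_natCast,
      hx, _root_.one_zpow, mul_one]
  have hxG : x ∈ G := hx1 ▸ G.zpow_mem hxm _
  refine ⟨hxG, ?_⟩
  have h1 := mul_mem (inv_mem hxG) h
  rwa [inv_mul_cancel_left] at h1

variable {Q : (ι → F) → F} (hQ : IsNondegenerateQuadraticForm Q)
include hQ

theorem el_pow {u a : ι → F} (hu : Q u = 0) (ha : pol Q u a = 0) (n : ℕ) :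
    el hQ u a ^ n = el hQ u ((n : F) • a) := by
  induction n with
  | zero => rw [pow_zero, Nat.cast_zero, zero_smul, el_zero hQ hu]
  | succ n ih =>
    rw [pow_succ, ih, Nat.cast_succ, add_smul, one_smul,
      el_add hQ hu (by rw [psmul_right hQ, ha, mul_zero]) ha]

/-- Transformations at a sum of orthogonal singular centres. -/
theorem el_add_left {z z' a : ι → F} (hz : Q z = 0) (hz' : Q z' = 0) (hzz : pol Q z z' = 0)
    (ha : pol Q z a = 0) (ha' : pol Q z' a = 0) :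
    el hQ (z + z') a = el hQ z a * el hQ z' a * el hQ z ((-Q a) • z') :=
  (el_eq_of hQ (by rw [qadd hQ, hz, hz', hzz]; ring) (by rw [padd_left hQ, ha, ha', add_zero]) fun x => by
    have hzc : pol Q z ((-Q a) • z') = 0 := by rw [psmul_right hQ, hzz, mul_zero]
    simp only [act_mul, act_el hQ hz ha, act_el hQ hz' ha', act_el hQ hz hzc, qsmul hQ, hz',
      padd_left hQ, padd_right hQ, psub_left hQ, psmul_left hQ, psmul_right hQ, hzz, ha, ha', pself hQ a,
      pcomm z' z, pcomm a z, pcomm a z', pol_self_singular hQ hz, pol_self_singular hQ hz', mul_zero]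
    module).symm

variable (D : PairData Q)

/-- The element acting on two pairs as a companion matrix. -/
noncomputable def PairData.twist (c : F) : ↥(eGroup Q) :=
  D.rot hQ 1 * el hQ (D.e 1) (c • D.f 2)

theorem PairData.twist_values (hk : 3 ≤ D.k) (c : F) :
    act (D.twist hQ c) (D.e 1) = D.e 2 ∧ act (D.twist hQ c) (D.e 2) = -D.e 1 - c • D.e 2 ∧
      act (D.twist hQ c) (D.f 2) = -D.f 1 ∧ act (D.twist hQ c) (-D.f 1) = -D.f 2 - c • (-D.f 1) ∧
      ∀ y, pol Q y (D.e 1) = 0 → pol Q y (D.f 1) = 0 → pol Q y (D.e 2) = 0 → pol Q y (D.f 2) = 0 →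
        act (D.twist hQ c) y = y := by
  have h1 : 1 < D.k := by omega
  have h2 : 2 < D.k := by omega
  obtain ⟨r1, r2, r3, r4, r5⟩ := D.rot_values hQ (i := 1) h2
  have a1 : pol Q (D.e 1) (c • D.f 2) = 0 := by rw [psmul_right hQ, D.pef' 1 2 h1 h2 (by omega), mul_zero]
  have hM := act_el hQ (D.qe 1 h1) a1
  refine ⟨?_, ?_, ?_, ?_, fun y y1 y2 y3 y4 => ?_⟩
  · rw [twist, act_mul, hM, D.pee 1 1 h1 h1, psmul_right hQ, D.pef' 1 2 h1 h2 (by omega)]
    simpa using r1
  · rw [twist, act_mul, hM, D.pee 2 1 h2 h1, psmul_right hQ, D.pef 2 h2]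
    simp only [zero_smul, add_zero, mul_zero, sub_zero, mul_one, act_sub, act_smul, r1, r2]
  · rw [twist, act_mul, hM, D.pfe' hQ h2 h1 (by omega), psmul_right hQ, D.pff 2 2 h2 h2]
    simpa using r4
  · rw [twist, act_mul, hM, pneg_left hQ, D.pfe hQ h1, psmul_right hQ, pneg_left hQ, D.pff 1 2 h1 h2,
      qsmul hQ, D.qf 2 h2, act_sub, act_sub, act_add, act_smul, act_smul, act_smul, act_smul, r4, r1,
      show act (D.rot hQ 1) (-D.f 1) = -D.f 2 by
        rw [← neg_one_smul F (D.f 1), act_smul, r3, neg_one_smul]]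
    module
  · rw [twist, act_mul, hM, y1, psmul_right hQ, y4]
    simpa using r5 y y1 y2 y3 y4

theorem PairData.twist_pow (hk : 3 ≤ D.k) {c : F} (h2 : c ≠ 2) (h2' : c ≠ -2) :
    D.twist hQ c ^ (Fintype.card F ^ 2 - 1) = 1 := by
  obtain ⟨t1, t2, t3, t4, t5⟩ := D.twist_values hQ hk c
  set g := D.twist hQ c
  set N := Fintype.card F ^ 2 - 1
  have plane : ∀ v w : ι → F, act g v = w → act g w = -v - c • w →
      act (g ^ N) v = v ∧ act (g ^ N) w = w := by
    intro v w hv hw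
    have key : ∀ (n : ℕ) (x : Fin 2 → F), act (g ^ n) (x 0 • v + x 1 • w) =
        ((comp c ^ n) *ᵥ x) 0 • v + ((comp c ^ n) *ᵥ x) 1 • w := by
      intro n
      induction n with
      | zero => intro x; rw [pow_zero, act_one, pow_zero, Matrix.one_mulVec]
      | succ n ih =>
        intro x
        rw [pow_succ, act_mul, act_add, act_smul, act_smul, hv, hw, pow_succ, ← Matrix.mulVec_mulVec]
        rw [show x 0 • w + x 1 • (-v - c • w) = (comp c *ᵥ x) 0 • v + (comp c *ᵥ x) 1 • w by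
          simp [comp, Matrix.mulVec, dotProduct, Fin.sum_univ_two]; module]
        exact ih _
    have hN := key N
    rw [comp_pow_sq_sub_one h2 h2'] at hN
    have e0 := hN ![1, 0]
    have e1 := hN ![0, 1]
    simp [Matrix.one_mulVec] at e0 e1
    exact ⟨e0, e1⟩
  obtain ⟨he1, he2⟩ := plane _ _ t1 t2
  obtain ⟨hf2, hf1⟩ := plane _ _ t3 t4
  rw [← neg_one_smul F (D.f 1), act_smul] at hf1
  have hf1' : act (g ^ N) (D.f 1) = D.f 1 := smul_right_injective (ι → F) (neg_ne_zero.2 one_ne_zero) hf1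
  have h1 : 1 < D.k := by omega
  have h3 : 2 < D.k := by omega
  refine ext_act fun v => ?_
  rw [act_one]
  set y := v - pol Q v (D.f 1) • D.e 1 - pol Q v (D.e 1) • D.f 1 - pol Q v (D.f 2) • D.e 2 -
    pol Q v (D.e 2) • D.f 2 with hy
  have hfix : act (g ^ N) y = y := by
    have : ∀ n : ℕ, act (g ^ n) y = y := fun n => by
      induction n with
      | zero => rw [pow_zero, act_one]
      | succ n ih =>
        rw [pow_succ, act_mul, t5 y ?_ ?_ ?_ ?_, ih] <;>
          simp only [hy, psub_left hQ, psmul_left hQ, D.pee 1 1 h1 h1, D.pee 2 1 h3 h1, D.pee 1 2 h1 h3,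
            D.pee 2 2 h3 h3, D.pff 1 1 h1 h1, D.pff 2 1 h3 h1, D.pff 1 2 h1 h3, D.pff 2 2 h3 h3,
            D.pef 1 h1, D.pef 2 h3, D.pef' 1 2 h1 h3 (by omega), D.pef' 2 1 h3 h1 (by omega),
            D.pfe hQ h1, D.pfe hQ h3, D.pfe' hQ h1 h3 (show (1:ℕ) ≠ 2 by omega),
            D.pfe' hQ h3 h1 (show (2:ℕ) ≠ 1 by omega)] <;> ring
    exact this N
  have hv : v = y + pol Q v (D.f 1) • D.e 1 + pol Q v (D.e 1) • D.f 1 + pol Q v (D.f 2) • D.e 2 +
    pol Q v (D.e 2) • D.f 2 := by rw [hy]; abel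
  conv_rhs => rw [hv]
  conv_lhs => rw [hv]
  simp only [act_add, act_smul, hfix, he1, he2, hf1', hf2]

theorem PairData.twist_U (hk : 3 ≤ D.k) (c : F) {y : ι → F} (hy : D.InU y) :
    act (D.twist hQ c) y = y :=
  (D.twist_values hQ hk c).2.2.2.2 y (hy 1 (by omega)).1 (hy 1 (by omega)).2 (hy 2 (by omega)).1
    (hy 2 (by omega)).2

/-- Two generators when there are at least three pairs. -/
theorem PairData.two_gen (hk : 3 ≤ D.k) :
    ∃ a b : ↥(eGroup Q), Subgroup.closure ({a, b} : Set ↥(eGroup Q)) = ⊤ := by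
  classical
  obtain ⟨c, hc2, hc2', hgen⟩ := exists_trace (F := F)
  obtain ⟨p, hp⟩ := CharP.exists F
  haveI hpp : Fact p.Prime := ⟨CharP.char_is_prime F p⟩
  obtain ⟨n, -, hn⟩ := FiniteField.card F p
  obtain ⟨t1, t2, -, -, t5⟩ := D.twist_values hQ hk c
  set g := D.twist hQ c with hg
  set x := el hQ (D.e 0) D.u1 with hx
  set G := Subgroup.closure ({x * g, D.cyc hQ} : Set ↥(eGroup Q)) with hG
  refine ⟨x * g, D.cyc hQ, ?_⟩
  have h0 : 0 < D.k := by omega
  have h1 : 1 < D.k := by omega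
  have h2 : 2 < D.k := by omega
  have hw : D.cyc hQ ∈ G := Subgroup.subset_closure (Set.mem_insert_of_mem _ rfl)
  have he0u : pol Q (D.e 0) D.u1 = 0 := by rw [pcomm, D.u1e 0 h0]
  have hge0 : act g (D.e 0) = D.e 0 := t5 _ (D.pee 0 1 h0 h1) (D.pef' 0 1 h0 h1 (by omega))
    (D.pee 0 2 h0 h2) (D.pef' 0 2 h0 h2 (by omega))
  have hgu : act g D.u1 = D.u1 := D.twist_U hQ hk c (D.u1_mem hQ)
  have hcomm : Commute x g := by
    have := el_conj hQ g (D.qe 0 h0) he0u
    rw [hge0, hgu, ← hx] at this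
    exact ((mul_inv_eq_iff_eq_mul.1 this).symm : x * g = g * x)
  have hcop : (Fintype.card F ^ 2 - 1).Coprime p := by
    refine ((Nat.Prime.coprime_iff_not_dvd hpp.out).2 fun h => ?_).symm
    have hd : p ∣ Fintype.card F ^ 2 := by rw [hn, ← pow_mul]; exact dvd_pow_self p (by simp)
    have h1' : 1 ≤ Fintype.card F ^ 2 := Nat.one_le_pow _ _ Fintype.card_pos
    have := Nat.dvd_sub hd h
    rw [show Fintype.card F ^ 2 - (Fintype.card F ^ 2 - 1) = 1 by omega] at this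
    exact hpp.out.one_lt.ne' (Nat.dvd_one.1 this)
  obtain ⟨hxG, hgG⟩ := mem_of_mul hcomm
    (by rw [el_pow hQ (D.qe 0 h0) he0u, CharP.cast_eq_zero, zero_smul, el_zero hQ (D.qe 0 h0)])
    (D.twist_pow hQ hk hc2 hc2') hcop (Subgroup.subset_closure (Set.mem_insert _ _) : x * g ∈ G)
  obtain ⟨cw, cw', hcw, hcw', hmid, -, -, hU⟩ := D.cyc_values hQ
  have hru : D.InU (D.r D.u1) := D.r_mem hQ (D.u1_mem hQ)
  have p1 : ∀ i, i < D.k → pol Q (D.e i) D.u1 = 0 ∧ pol Q (D.e i) (D.r D.u1) = 0 :=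
    fun i hi => D.pol_u1 hQ hi (Or.inl rfl)
  -- both parameters at one centre
  have hxs : el hQ (D.e 1) (D.r D.u1) ∈ G := by
    have := mem_conj hQ hw (D.qe 0 h0) he0u hxG
    rwa [(hmid 0 (by omega)).1, hU _ (D.u1_mem hQ)] at this
  have hxs2 : el hQ (D.e 2) D.u1 ∈ G := by
    have := mem_conj hQ hw (D.qe 1 h1) (p1 1 h1).2 hxs
    rwa [(hmid 1 (by omega)).1, hU _ hru, D.r_r hQ] at this
  have hB1 : D.Both hQ G (D.e 1) 1 := by
    refine ⟨?_, by rwa [one_smul]⟩
    have := mem_conj hQ (inv_mem hgG) (D.qe 2 h2) (p1 2 h2).1 hxs2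
    rw [one_smul]
    rwa [show act g⁻¹ (D.e 2) = D.e 1 by rw [← t1, act_inv_act],
      show act g⁻¹ D.u1 = D.u1 by conv_lhs => rw [← hgu, act_inv_act]] at this
  -- the scalars valid at all centres
  let A : AddSubgroup F :=
    { carrier := {s | D.Both hQ G (D.e 1) s ∧ D.Both hQ G (D.e 2) s}
      zero_mem' := by
        refine ⟨⟨?_, ?_⟩, ⟨?_, ?_⟩⟩ <;>
          rw [zero_smul, el_zero hQ (D.qe _ (by omega))] <;> exact one_mem G
      add_mem' := fun {s t} hs ht => by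
        refine ⟨⟨?_, ?_⟩, ⟨?_, ?_⟩⟩ <;> rw [add_smul, el_add hQ (D.qe _ (by omega))
          (by first | rw [psmul_right hQ, (p1 _ (by omega)).1, mul_zero] | rw [psmul_right hQ, (p1 _ (by omega)).2, mul_zero])
          (by first | rw [psmul_right hQ, (p1 _ (by omega)).1, mul_zero] | rw [psmul_right hQ, (p1 _ (by omega)).2, mul_zero])]
        exacts [mul_mem hs.1.1 ht.1.1, mul_mem hs.1.2 ht.1.2, mul_mem hs.2.1 ht.2.1, mul_mem hs.2.2 ht.2.2]
      neg_mem' := fun {s} hs => by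
        refine ⟨⟨?_, ?_⟩, ⟨?_, ?_⟩⟩ <;> rw [neg_smul] <;> refine el_mem_neg hQ (D.qe _ (by omega))
          (by first | rw [psmul_right hQ, (p1 _ (by omega)).1, mul_zero] | rw [psmul_right hQ, (p1 _ (by omega)).2, mul_zero]) ?_
        exacts [hs.1.1, hs.1.2, hs.2.1, hs.2.2] }
  have hmove : ∀ s, D.Both hQ G (D.e 1) s → s ∈ A := fun s hs => by
    refine ⟨hs, ⟨?_, ?_⟩⟩
    · have := mem_conj hQ hgG (D.qe 1 h1) (by rw [psmul_right hQ, (p1 1 h1).1, mul_zero]) hs.1
      rwa [t1, act_smul, hgu] at this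
    · have := mem_conj hQ hgG (D.qe 1 h1) (by rw [psmul_right hQ, (p1 1 h1).2, mul_zero]) hs.2
      rwa [t1, act_smul, D.twist_U hQ hk c hru] at this
  have hA1 : (1 : F) ∈ A := hmove 1 hB1
  -- long roots
  let B : AddSubgroup F :=
    { carrier := {t | el hQ (D.e 1) (t • D.e 2) ∈ G}
      zero_mem' := by
        show el hQ (D.e 1) ((0 : F) • D.e 2) ∈ G
        rw [zero_smul, el_zero hQ (D.qe 1 h1)]; exact one_mem G
      add_mem' := fun {s t} hs ht => by
        show el hQ (D.e 1) ((s + t) • D.e 2) ∈ G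
        rw [add_smul, el_add hQ (D.qe 1 h1) (by rw [psmul_right hQ, D.pee 1 2 h1 h2, mul_zero])
          (by rw [psmul_right hQ, D.pee 1 2 h1 h2, mul_zero])]
        exact mul_mem hs ht
      neg_mem' := fun {s} hs => by
        show el hQ (D.e 1) ((-s) • D.e 2) ∈ G
        rw [neg_smul]
        exact el_mem_neg hQ (D.qe 1 h1) (by rw [psmul_right hQ, D.pee 1 2 h1 h2, mul_zero]) hs }
  have p01 : ∀ t : F, pol Q (D.e 0) (t • D.e 1) = 0 := fun t => by rw [psmul_right hQ, D.pee 0 1 h0 h1, mul_zero]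
  have p02 : ∀ t : F, pol Q (D.e 0) (t • D.e 2) = 0 := fun t => by rw [psmul_right hQ, D.pee 0 2 h0 h2, mul_zero]
  have hB_iff : ∀ t, el hQ (D.e 0) (t • D.e 1) ∈ G ↔ t ∈ B := fun t => by
    constructor
    · intro h
      have := mem_conj hQ hw (D.qe 0 h0) (p01 t) h
      rwa [act_smul, (hmid 0 (by omega)).1, (hmid 1 (by omega)).1] at this
    · intro h
      have := mem_conj hQ (inv_mem hw) (D.qe 1 h1) (by rw [psmul_right hQ, D.pee 1 2 h1 h2, mul_zero]) h
      rwa [show act (D.cyc hQ)⁻¹ (D.e 1) = D.e 0 by rw [← (hmid 0 (by omega)).1, act_inv_act],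
        act_smul, show act (D.cyc hQ)⁻¹ (D.e 2) = D.e 1 by rw [← (hmid 1 (by omega)).1, act_inv_act]] at this
  have hBc : ∀ t ∈ B, c * t ∈ B := fun t ht => by
    have h01 := (hB_iff t).2 ht
    have h02 := mem_conj hQ hgG (D.qe 0 h0) (p01 t) h01
    rw [act_smul, t1, hge0] at h02
    have h3 := mem_conj hQ hgG (D.qe 0 h0) (p02 t) h02
    rw [act_smul, t2, hge0] at h3
    have h4 : el hQ (D.e 0) ((c * t) • D.e 2) ∈ G := by
      have e : (c * t) • D.e 2 = -(t • (-D.e 1 - c • D.e 2)) + -(t • D.e 1) := by module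
      rw [e, el_add hQ (D.qe 0 h0) (by
        rw [pneg_right hQ, psmul_right hQ, psub_right hQ, pneg_right hQ, psmul_right hQ, D.pee 0 1 h0 h1,
          D.pee 0 2 h0 h2]; ring) (by rw [pneg_right hQ, p01 t, neg_zero])]
      exact mul_mem (el_mem_neg hQ (D.qe 0 h0) (by
        rw [psmul_right hQ, psub_right hQ, pneg_right hQ, psmul_right hQ, D.pee 0 1 h0 h1,
          D.pee 0 2 h0 h2]; ring) h3) (el_mem_neg hQ (D.qe 0 h0) (p01 t) h01)
    have h5 := mem_conj hQ (inv_mem hgG) (D.qe 0 h0) (p02 _) h4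
    rw [act_smul, show act g⁻¹ (D.e 0) = D.e 0 by conv_lhs => rw [← hge0, act_inv_act],
      show act g⁻¹ (D.e 2) = D.e 1 by rw [← t1, act_inv_act]] at h5
    exact (hB_iff _).1 h5
  have hBall : ∀ t, t ∈ B := by
    obtain ⟨a₀, b₀, ha₀, hb₀, hab⟩ := D.exists_pol_ne hQ
    have hz : ∀ z, (z = D.e 1 ∨ z = D.e 2) → ∀ u, (u = D.u1 ∨ u = D.r D.u1) → pol Q z u = 0 := by
      rintro z (rfl | rfl) u (rfl | rfl)
      exacts [(p1 1 h1).1, (p1 1 h1).2, (p1 2 h2).1, (p1 2 h2).2]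
    have hm : ∀ z, (z = D.e 1 ∨ z = D.e 2) → ∀ u, (u = D.u1 ∨ u = D.r D.u1) → el hQ z u ∈ G := by
      intro z hz' u hu
      have := hA1
      rcases hz' with rfl | rfl <;> rcases hu with rfl | rfl
      · simpa using this.1.1
      · simpa using this.1.2
      · simpa using this.2.1
      · simpa using this.2.2
    have hb : -pol Q b₀ a₀ ∈ B := mem_long hQ (D.qe 2 h2) (D.qe 1 h1) (D.pee 2 1 h2 h1)
      (hz _ (Or.inr rfl) _ ha₀) (hz _ (Or.inl rfl) _ ha₀) (hz _ (Or.inr rfl) _ hb₀) (hz _ (Or.inl rfl) _ hb₀)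
      (hm _ (Or.inr rfl) _ ha₀) (hm _ (Or.inl rfl) _ hb₀)
    intro t
    have := addSubgroup_top hgen (B.comap (AddMonoidHom.mulRight (-pol Q b₀ a₀)))
      (by simpa using hb) (fun s hs => by
        have := hBc _ hs
        rw [AddSubgroup.mem_comap] at hs ⊢
        simpa [mul_assoc] using this) (t / -pol Q b₀ a₀)
    rw [AddSubgroup.mem_comap] at this
    simpa [div_mul_cancel₀ _ (neg_ne_zero.2 hab)] using this
  have hAc : ∀ s ∈ A, c * s ∈ A := fun s hs => by
    have key : ∀ u, D.InU u → el hQ (D.e 1) (s • u) ∈ G → el hQ (D.e 2) (s • u) ∈ G →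
        el hQ (D.e 2) ((c * s) • u) ∈ G := fun u hu hm1 hm2 => by
      have e1u : pol Q (D.e 1) (s • u) = 0 := by rw [psmul_right hQ, pcomm, (hu 1 h1).1, mul_zero]
      have e2u : pol Q (D.e 2) (s • u) = 0 := by rw [psmul_right hQ, pcomm, (hu 2 h2).1, mul_zero]
      have e2u' : pol Q (D.e 2) u = 0 := by rw [pcomm, (hu 2 h2).1]
      have h := mem_conj hQ hgG (D.qe 2 h2) e2u hm2
      rw [t2, act_smul, D.twist_U hQ hk c hu,
        show -D.e 1 - c • D.e 2 = (-1 : F) • D.e 1 + (-c) • D.e 2 by module,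
        el_add_left hQ (by rw [qsmul hQ, D.qe 1 h1, mul_zero]) (by rw [qsmul hQ, D.qe 2 h2, mul_zero])
          (by rw [psmul_left hQ, psmul_right hQ, D.pee 1 2 h1 h2]; ring)
          (by rw [psmul_left hQ, e1u, mul_zero]) (by rw [psmul_left hQ, e2u, mul_zero]),
        el_smul_left hQ (D.qe 1 h1) _ e1u, el_smul_left hQ (D.qe 2 h2) _ e2u,
        el_smul_left hQ (D.qe 1 h1) _ (by rw [psmul_right hQ, psmul_right hQ, D.pee 1 2 h1 h2]; ring),
        smul_smul, smul_smul, smul_smul, smul_smul] at h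
      have hd : el hQ (D.e 1) ((-1 * s) • u) ∈ G := by
        rw [neg_one_mul, neg_smul]; exact el_mem_neg hQ (D.qe 1 h1) e1u hm1
      have h' := mul_mem (mul_mem (inv_mem hd) h) (inv_mem (hBall (-1 * -Q (s • u) * -c)))
      rw [show ∀ a b d : ↥(eGroup Q), a⁻¹ * (a * b * d) * d⁻¹ = b from fun a b d => by group] at h'
      have := el_mem_neg hQ (D.qe 2 h2) (by rw [psmul_right hQ, e2u', mul_zero]) h'
      rwa [show -((-c * s) • u) = (c * s) • u by module] at this
    have hB2 : D.Both hQ G (D.e 2) (c * s) :=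
      ⟨key _ (D.u1_mem hQ) hs.1.1 hs.2.1, key _ hru hs.1.2 hs.2.2⟩
    refine hmove _ ⟨?_, ?_⟩
    · have := mem_conj hQ (inv_mem hgG) (D.qe 2 h2) (by rw [psmul_right hQ, (p1 2 h2).1, mul_zero]) hB2.1
      rwa [show act g⁻¹ (D.e 2) = D.e 1 by rw [← t1, act_inv_act], act_smul,
        show act g⁻¹ D.u1 = D.u1 by conv_lhs => rw [← hgu, act_inv_act]] at this
    · have := mem_conj hQ (inv_mem hgG) (D.qe 2 h2) (by rw [psmul_right hQ, (p1 2 h2).2, mul_zero]) hB2.2
      rwa [show act g⁻¹ (D.e 2) = D.e 1 by rw [← t1, act_inv_act], act_smul,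
        show act g⁻¹ (D.r D.u1) = D.r D.u1 by conv_lhs => rw [← D.twist_U hQ hk c hru, act_inv_act]] at this
  exact D.eq_top hQ hw h1 fun s => (addSubgroup_top hgen A hA1 hAc s).1

/-- Two generators when the orthogonal of the pairs is a line and the characteristic is odd. -/
theorem PairData.two_gen_line (h2 : (2 : F) ≠ 0) (hu : D.u1 = D.u0) :
    ∃ a b : ↥(eGroup Q), Subgroup.closure ({a, b} : Set ↥(eGroup Q)) = ⊤ := by
  classical
  have h0 : 0 < D.k := by have := D.two; omega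
  have h1 : 1 < D.k := D.two
  obtain ⟨p, hp⟩ := CharP.exists F
  haveI hpp : Fact p.Prime := ⟨CharP.char_is_prime F p⟩
  obtain ⟨n, -, hn⟩ := FiniteField.card F p
  obtain ⟨ω, hω⟩ := IsCyclic.exists_generator (α := Fˣ)
  have hW : 3 ≤ Module.finrank F (pairPerp hQ ⊤ (D.e 1) (D.f 1)) := by
    let v : Fin 3 → ↥(pairPerp hQ ⊤ (D.e 1) (D.f 1)) :=
      ![⟨D.e 0, (mem_pairPerp hQ).2 ⟨trivial, D.pee 0 1 h0 h1, D.pef' 0 1 h0 h1 (by omega)⟩⟩,
        ⟨D.f 0, (mem_pairPerp hQ).2 ⟨trivial, D.pfe' hQ h0 h1 (by omega), D.pff 0 1 h0 h1⟩⟩,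
        ⟨D.u0, (mem_pairPerp hQ).2 ⟨trivial, D.u0e 1 h1, D.u0f 1 h1⟩⟩]
    have hli : LinearIndependent F v := by
      rw [Fintype.linearIndependent_iff]
      intro a ha
      have ha' : a 0 • D.e 0 + a 1 • D.f 0 + a 2 • D.u0 = 0 := by
        have := congrArg Subtype.val ha
        simpa [v, Fin.sum_univ_three] using this
      have q1 := congrArg (fun y => pol Q y (D.f 0)) ha'
      have q2 := congrArg (fun y => pol Q y (D.e 0)) ha'
      have q3 := congrArg (fun y => pol Q y D.u0) ha'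
      simp only [padd_left hQ, psmul_left hQ, pzero_left hQ, D.pef 0 h0, D.pff 0 0 h0 h0, D.u0f 0 h0,
        D.pee 0 0 h0 h0, D.pfe hQ h0, D.u0e 0 h0, mul_zero, add_zero, mul_one, zero_add,
        pself hQ D.u0] at q1 q2 q3
      rw [q1, q2, zero_mul, zero_mul, zero_add, zero_add] at q3
      intro i
      fin_cases i
      · exact q1
      · exact q2
      · exact (mul_eq_zero.1 q3).resolve_right (mul_ne_zero h2 D.qu0)
    simpa using hli.fintype_card_le_finrank
  obtain ⟨τ, hτe, hτf, hτy⟩ := exists_torus hQ (P := ⊤) rfl (D.qe 1 h1) (D.qf 1 h1) (D.pef 1 h1) hW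
    (c := (ω : F)) ω.ne_zero
  set x := el hQ (D.e 0) D.u1 with hx
  set G := Subgroup.closure ({x * τ, D.cyc hQ} : Set ↥(eGroup Q)) with hG
  refine ⟨x * τ, D.cyc hQ, ?_⟩
  have he0u : pol Q (D.e 0) D.u1 = 0 := by rw [pcomm, D.u1e 0 h0]
  have hτe0 : act τ (D.e 0) = D.e 0 := hτy _ (D.pee 0 1 h0 h1) (D.pef' 0 1 h0 h1 (by omega))
  have hτU : ∀ y, D.InU y → act τ y = y := fun y hy => hτy y (hy 1 h1).1 (hy 1 h1).2
  have hcomm : Commute x τ := by
    have := el_conj hQ τ (D.qe 0 h0) he0u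
    rw [hτe0, hτU _ (D.u1_mem hQ), ← hx] at this
    exact ((mul_inv_eq_iff_eq_mul.1 this).symm : x * τ = τ * x)
  have hτpow : τ ^ (Fintype.card F - 1) = 1 := by
    have key : ∀ m : ℕ, act (τ ^ m) (D.e 1) = ((ω : F) ^ 2) ^ m • D.e 1 ∧
        act (τ ^ m) (D.f 1) = (((ω : F) ^ 2)⁻¹) ^ m • D.f 1 ∧
        ∀ y, pol Q y (D.e 1) = 0 → pol Q y (D.f 1) = 0 → act (τ ^ m) y = y := fun m => by
      induction m with
      | zero => simp [act_one]
      | succ m ih =>
        refine ⟨?_, ?_, fun y hy hy' => ?_⟩ <;> rw [pow_succ, act_mul]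
        · rw [hτe, act_smul, ih.1, smul_smul, ← pow_succ']
        · rw [hτf, act_smul, ih.2.1, smul_smul, ← pow_succ']
        · rw [hτy y hy hy', ih.2.2 y hy hy']
    obtain ⟨ke, kf, ky⟩ := key (Fintype.card F - 1)
    rw [FiniteField.pow_card_sub_one_eq_one _ (pow_ne_zero 2 ω.ne_zero), one_smul] at ke
    rw [FiniteField.pow_card_sub_one_eq_one _ (inv_ne_zero (pow_ne_zero 2 ω.ne_zero)), one_smul] at kf
    refine ext_act fun v => ?_
    rw [act_one]
    set y := v - pol Q v (D.f 1) • D.e 1 - pol Q v (D.e 1) • D.f 1 with hy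
    have hy1 : act (τ ^ (Fintype.card F - 1)) y = y := by
      refine ky y ?_ ?_ <;> simp only [hy, psub_left hQ, psmul_left hQ, D.pee 1 1 h1 h1, D.pff 1 1 h1 h1,
        D.pef 1 h1, D.pfe hQ h1] <;> ring
    have hv : v = y + pol Q v (D.f 1) • D.e 1 + pol Q v (D.e 1) • D.f 1 := by rw [hy]; abel
    conv_rhs => rw [hv]
    conv_lhs => rw [hv]
    simp only [act_add, act_smul, hy1, ke, kf]
  have hcop : (Fintype.card F - 1).Coprime p := by
    refine ((Nat.Prime.coprime_iff_not_dvd hpp.out).2 fun h => ?_).symm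
    have hd : p ∣ Fintype.card F := by rw [hn]; exact dvd_pow_self p (by simp)
    have h1' : 1 ≤ Fintype.card F := Fintype.card_pos
    have := Nat.dvd_sub hd h
    rw [show Fintype.card F - (Fintype.card F - 1) = 1 by omega] at this
    exact hpp.out.one_lt.ne' (Nat.dvd_one.1 this)
  obtain ⟨hxG, hτG⟩ := mem_of_mul hcomm
    (by rw [el_pow hQ (D.qe 0 h0) he0u, CharP.cast_eq_zero, zero_smul, el_zero hQ (D.qe 0 h0)])
    hτpow hcop (Subgroup.subset_closure (Set.mem_insert _ _) : x * τ ∈ G)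
  have hw : D.cyc hQ ∈ G := Subgroup.subset_closure (Set.mem_insert_of_mem _ rfl)
  obtain ⟨cw, cw', hcw, hcw', hmid, -, -, hU⟩ := D.cyc_values hQ
  have hr : D.r D.u1 = -D.u1 := by
    rw [hu, PairData.r, pself hQ, mul_div_cancel_right₀ _ D.qu0]; module
  have e1u : pol Q (D.e 1) D.u1 = 0 := (D.pol_u1 hQ h1 (Or.inl rfl)).1
  let A : AddSubgroup F :=
    { carrier := {t | el hQ (D.e 1) (t • D.u1) ∈ G}
      zero_mem' := by
        show el hQ (D.e 1) ((0 : F) • D.u1) ∈ G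
        rw [zero_smul, el_zero hQ (D.qe 1 h1)]; exact one_mem G
      add_mem' := fun {s t} hs ht => by
        show el hQ (D.e 1) ((s + t) • D.u1) ∈ G
        rw [add_smul, el_add hQ (D.qe 1 h1) (by rw [psmul_right hQ, e1u, mul_zero])
          (by rw [psmul_right hQ, e1u, mul_zero])]
        exact mul_mem hs ht
      neg_mem' := fun {s} hs => by
        show el hQ (D.e 1) ((-s) • D.u1) ∈ G
        rw [neg_smul]; exact el_mem_neg hQ (D.qe 1 h1) (by rw [psmul_right hQ, e1u, mul_zero]) hs }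
  have hA1 : (1 : F) ∈ A := by
    show el hQ (D.e 1) ((1 : F) • D.u1) ∈ G
    have := mem_conj hQ hw (D.qe 0 h0) he0u hxG
    rw [(hmid 0 (by omega)).1, hU _ (D.u1_mem hQ), hr] at this
    have h3 := el_mem_neg hQ (D.qe 1 h1) (by rw [pneg_right hQ, e1u, neg_zero]) this
    rwa [neg_neg, ← one_smul F D.u1] at h3
  have hAω : ∀ t ∈ A, (ω : F) ^ 2 * t ∈ A := fun t ht => by
    have := mem_conj hQ hτG (D.qe 1 h1) (by rw [psmul_right hQ, e1u, mul_zero]) (ht : _ ∈ G)
    rw [hτe, act_smul, hτU _ (D.u1_mem hQ),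
      el_smul_left hQ (D.qe 1 h1) _ (by rw [psmul_right hQ, e1u, mul_zero]), smul_smul] at this
    exact this
  have hsq : ∀ s : F, s ^ 2 ∈ A := by
    intro s
    rcases eq_or_ne s 0 with rfl | hs
    · rw [zero_pow two_ne_zero]; exact A.zero_mem
    obtain ⟨k, hk⟩ := (mem_powers_iff_mem_zpowers.2 (hω (Units.mk0 s hs)) :
      Units.mk0 s hs ∈ Submonoid.powers ω)
    have hs' : s = (ω : F) ^ k := by simpa using (congrArg Units.val hk).symm
    rw [hs', ← pow_mul, mul_comm, pow_mul]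
    clear hk hs'
    induction k with
    | zero => rw [pow_zero]; exact hA1
    | succ k ih => rw [pow_succ']; exact hAω _ ih
  have hAall : ∀ s, s ∈ A := fun s => by
    have := A.sub_mem (hsq ((s + 1) / 2)) (hsq ((s - 1) / 2))
    rwa [show ((s + 1) / 2) ^ 2 - ((s - 1) / 2) ^ 2 = s by field_simp; ring] at this
  refine D.eq_top hQ hw h1 fun s => ⟨hAall s, ?_⟩
  rw [hr, smul_neg, ← neg_smul]
  exact hAall (-s)

end CfsgLib.PGroup.OrthTwoGen
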