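import Cfsg.Agent.Lib.PGroup.OrthTwoGen.Routes
import Cfsg.Agent.Lib.PGroup.OrthIndex.Final
import Cfsg.Agent.Lib.Perm.Trans.QuadStd

/-!
The standard orthogonal forms: two generators for the projective groups.
-/

set_option autoImplicit false
set_option linter.unusedSectionVars false
set_option linter.unusedSimpArgs false

namespace CfsgLib.PGroup.OrthTwoGen

open scoped Matrix
open Matrix Cfsg.Geo CfsgLib.Perm.Asch CfsgLib.Perm.Trans CfsgLib.Perm.Trans.Quad
open CfsgLib.PGroup.OrthIndex

variable {F : Type*} [Field F] [Fintype F]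

local notation "pol" => QuadraticMap.polar

/-- Two generators of the group of Eichler transformations give two of the projective group. -/
theorem pomega_two_gen {ι : Type} [Fintype ι] [DecidableEq ι] {Q : (ι → F) → F}
    (hQ : IsNondegenerateQuadraticForm Q) (hn : 5 ≤ Fintype.card ι)
    (h : ∃ a b : ↥(eGroup Q), Subgroup.closure ({a, b} : Set ↥(eGroup Q)) = ⊤) :
    ∃ a b : Cfsg.POmega F Q, Subgroup.closure ({a, b} : Set (Cfsg.POmega F Q)) = ⊤ := by
  obtain ⟨a, b, h⟩ := h
  let φ : Cfsg.Omega F Q ≃* ↥(eGroup Q) :=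
    ((Cfsg.Omega F Q).equivMapOfInjective _ (Cfsg.isometryGroup F Q).subtype_injective).trans
      (MulEquiv.subgroupCongr (omegaGL_eq hQ hn))
  let π : ↥(eGroup Q) →* Cfsg.POmega F Q :=
    (QuotientGroup.mk' (Subgroup.center (Cfsg.Omega F Q))).comp φ.symm.toMonoidHom
  have hπ : Function.Surjective π := (QuotientGroup.mk'_surjective _).comp φ.symm.surjective
  refine ⟨π a, π b, ?_⟩
  have h1 := congrArg (Subgroup.map π) h
  rwa [MonoidHom.map_closure, Set.image_pair, Subgroup.map_top_of_surjective π hπ] at h1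

theorem odd_two_gen (h2 : (2 : F) ≠ 0) (m : ℕ) (hm : 2 ≤ m) :
    ∃ a b : Cfsg.POmega F (Cfsg.quadFormOdd m F),
      Subgroup.closure ({a, b} : Set (Cfsg.POmega F (Cfsg.quadFormOdd m F))) = ⊤ := by
  classical
  have hp : ∀ u v, pol (Cfsg.quadFormOdd m F) u v = 2 * (u (.inl ()) * v (.inl ())) +
      ∑ i, (u (.inr (.inl i)) * v (.inr (.inr i)) + v (.inr (.inl i)) * u (.inr (.inr i))) := fun u v => by
    simp only [QuadraticMap.polar, Cfsg.quadFormOdd, Pi.add_apply, add_mul, mul_add, Finset.sum_add_distrib]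
    ring
  let e : ℕ → (Unit ⊕ (Fin m ⊕ Fin m) → F) := fun i =>
    if h : i < m then Pi.single (.inr (.inl ⟨i, h⟩)) 1 else 0
  let f : ℕ → (Unit ⊕ (Fin m ⊕ Fin m) → F) := fun i =>
    if h : i < m then Pi.single (.inr (.inr ⟨i, h⟩)) 1 else 0
  let D : PairData (Cfsg.quadFormOdd m F) :=
    { k := m, two := hm, e := e, f := f, u0 := Pi.single (.inl ()) 1, u1 := Pi.single (.inl ()) 1
      qe := fun i hi => by simp [e, hi, Cfsg.quadFormOdd, Pi.single_apply]
      qf := fun i hi => by simp [f, hi, Cfsg.quadFormOdd, Pi.single_apply]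
      pee := fun i j hi hj => by simp [hp, e, hi, hj, Pi.single_apply]
      pff := fun i j hi hj => by simp [hp, f, hi, hj, Pi.single_apply]
      pef := fun i hi => by simp [hp, e, f, hi, Pi.single_apply]
      pef' := fun i j hi hj h => by simp [hp, e, f, hi, hj, Pi.single_apply, h, Ne.symm h]
      qu0 := by simp [Cfsg.quadFormOdd, Pi.single_apply]
      u0e := fun i hi => by simp [hp, e, hi, Pi.single_apply]
      u0f := fun i hi => by simp [hp, f, hi, Pi.single_apply]
      u1e := fun i hi => by simp [hp, e, hi, Pi.single_apply]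
      u1f := fun i hi => by simp [hp, f, hi, Pi.single_apply]
      span := fun y hy => by
        refine Submodule.mem_span_pair.2 ⟨y (.inl ()), 0, ?_⟩
        rw [zero_smul, add_zero]
        funext x
        rcases x with u | i | i
        · simp
        · have := (hy i.1 i.2).2
          simp [hp, f, Pi.single_apply] at this
          simp [this]
        · have := (hy i.1 i.2).1
          simp [hp, e, Pi.single_apply] at this
          simp [this] }
  exact pomega_two_gen (quadFormOdd_nd h2) (by simp only [Fintype.card_sum, Fintype.card_unit, Fintype.card_fin]; omega)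
    (D.two_gen_line (quadFormOdd_nd h2) h2 rfl)

theorem plus_two_gen (k : ℕ) (hk : 3 ≤ k) :
    ∃ a b : Cfsg.POmega F (Cfsg.quadFormPlus (k + 1) F),
      Subgroup.closure ({a, b} : Set (Cfsg.POmega F (Cfsg.quadFormPlus (k + 1) F))) = ⊤ := by
  classical
  have hp : ∀ u v, pol (Cfsg.quadFormPlus (k + 1) F) u v =
      ∑ i, (u (.inl i) * v (.inr i) + v (.inl i) * u (.inr i)) := fun u v => by
    simp only [QuadraticMap.polar, Cfsg.quadFormPlus, ← Finset.sum_sub_distrib, Pi.add_apply]
    exact Finset.sum_congr rfl fun i _ => by ring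
  let e : ℕ → (Fin (k + 1) ⊕ Fin (k + 1) → F) := fun i =>
    if h : i < k then Pi.single (.inl ⟨i, h.trans k.lt_succ_self⟩) 1 else 0
  let f : ℕ → (Fin (k + 1) ⊕ Fin (k + 1) → F) := fun i =>
    if h : i < k then Pi.single (.inr ⟨i, h.trans k.lt_succ_self⟩) 1 else 0
  set a : Fin (k + 1) ⊕ Fin (k + 1) → F := Pi.single (.inl (Fin.last k)) 1 with ha
  set b : Fin (k + 1) ⊕ Fin (k + 1) → F := Pi.single (.inr (Fin.last k)) 1 with hb
  have hlast : ∀ (i : ℕ) (h : i < k), (⟨i, h.trans k.lt_succ_self⟩ : Fin (k + 1)) ≠ Fin.last k :=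
    fun i h => Fin.ne_of_val_ne h.ne
  let D : PairData (Cfsg.quadFormPlus (k + 1) F) :=
    { k := k, two := by omega, e := e, f := f, u0 := a + b, u1 := a
      qe := fun i hi => by simp [e, hi, Cfsg.quadFormPlus, Pi.single_apply]
      qf := fun i hi => by simp [f, hi, Cfsg.quadFormPlus, Pi.single_apply]
      pee := fun i j hi hj => by simp [hp, e, hi, hj, Pi.single_apply]
      pff := fun i j hi hj => by simp [hp, f, hi, hj, Pi.single_apply]
      pef := fun i hi => by simp [hp, e, f, hi, Pi.single_apply]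
      pef' := fun i j hi hj h => by simp [hp, e, f, hi, hj, Pi.single_apply, h, Ne.symm h]
      qu0 := by simp [a, b, Cfsg.quadFormPlus, Pi.single_apply]
      u0e := fun i hi => by simp [hp, a, b, e, hi, Pi.single_apply, hlast i hi, (hlast i hi).symm]
      u0f := fun i hi => by simp [hp, a, b, f, hi, Pi.single_apply, hlast i hi, (hlast i hi).symm]
      u1e := fun i hi => by simp [hp, a, e, hi, Pi.single_apply, hlast i hi, (hlast i hi).symm]
      u1f := fun i hi => by simp [hp, a, f, hi, Pi.single_apply, hlast i hi, (hlast i hi).symm]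
      span := fun y hy => by
        have hQ0 : Cfsg.quadFormPlus (k + 1) F (a + b) = 1 := by
          simp [a, b, Cfsg.quadFormPlus, Pi.single_apply]
        have hpa : pol (Cfsg.quadFormPlus (k + 1) F) a (a + b) = 1 := by simp [hp, a, b, Pi.single_apply]
        refine Submodule.mem_span_pair.2 ⟨y (.inl (Fin.last k)), -y (.inr (Fin.last k)), ?_⟩
        rw [hQ0, hpa, div_one, one_smul]
        funext x
        rcases x with i | i <;> induction i using Fin.lastCases with
        | last => simp [a, b]
        | cast j =>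
          have h1 := (hy j.1 j.2).1
          have h2 := (hy j.1 j.2).2
          have hne : j.castSucc ≠ Fin.last k := (Fin.castSucc_lt_last j).ne
          have hcast : (⟨j.1, j.2.trans k.lt_succ_self⟩ : Fin (k + 1)) = j.castSucc := rfl
          simp [hp, e, f, Pi.single_apply, hcast] at h1 h2
          simp [a, b, hne, h1, h2] }
  exact pomega_two_gen quadFormPlus_nd (by simp only [Fintype.card_sum, Fintype.card_fin]; omega)
    (D.two_gen quadFormPlus_nd hk)

theorem minus_two_gen (k : ℕ) (hk : 3 ≤ k) (a b : F)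
    (hab : ∀ z₁ z₂ : F, z₁ ^ 2 + a * z₁ * z₂ + b * z₂ ^ 2 = 0 → z₁ = 0 ∧ z₂ = 0) :
    ∃ g h : Cfsg.POmega F (Cfsg.quadFormMinus k F a b),
      Subgroup.closure ({g, h} : Set (Cfsg.POmega F (Cfsg.quadFormMinus k F a b))) = ⊤ := by
  classical
  have hp : ∀ u v, pol (Cfsg.quadFormMinus k F a b) u v =
      (∑ i, (u (.inl (.inl i)) * v (.inl (.inr i)) + v (.inl (.inl i)) * u (.inl (.inr i)))) +
        (2 * (u (.inr 0) * v (.inr 0)) + a * (u (.inr 0) * v (.inr 1) + v (.inr 0) * u (.inr 1)) +
          2 * b * (u (.inr 1) * v (.inr 1))) := fun u v => by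
    simp only [QuadraticMap.polar, Cfsg.quadFormMinus, Pi.add_apply, add_mul, mul_add, Finset.sum_add_distrib]
    ring
  have ha2 : a = 0 → (2 : F) ≠ 0 := fun ha h2 => by
    haveI : CharP F 2 := CharTwo.of_one_ne_zero_of_two_eq_zero one_ne_zero h2
    obtain ⟨c, hc⟩ := FiniteField.isSquare_of_char_two (ringChar.eq F 2) b
    refine one_ne_zero (hab c 1 ?_).2
    rw [ha, hc]
    linear_combination (c * c) * h2
  let e : ℕ → ((Fin k ⊕ Fin k) ⊕ Fin 2 → F) := fun i =>
    if h : i < k then Pi.single (.inl (.inl ⟨i, h⟩)) 1 else 0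
  let f : ℕ → ((Fin k ⊕ Fin k) ⊕ Fin 2 → F) := fun i =>
    if h : i < k then Pi.single (.inl (.inr ⟨i, h⟩)) 1 else 0
  -- a second vector, not orthogonal to the first one
  obtain ⟨s, hs⟩ : ∃ s : F, 2 * s + a ≠ 0 := by
    by_cases ha : a = 0
    · exact ⟨1, by rw [ha, mul_one, add_zero]; exact ha2 ha⟩
    · exact ⟨0, by rwa [mul_zero, zero_add]⟩
  set u : (Fin k ⊕ Fin k) ⊕ Fin 2 → F := Pi.single (.inr 0) 1 with hu
  set v : (Fin k ⊕ Fin k) ⊕ Fin 2 → F := s • Pi.single (.inr 0) 1 + Pi.single (.inr 1) 1 with hv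
  let D : PairData (Cfsg.quadFormMinus k F a b) :=
    { k := k, two := by omega, e := e, f := f, u0 := u, u1 := v
      qe := fun i hi => by simp [e, hi, Cfsg.quadFormMinus, Pi.single_apply]
      qf := fun i hi => by simp [f, hi, Cfsg.quadFormMinus, Pi.single_apply]
      pee := fun i j hi hj => by simp [hp, e, hi, hj, Pi.single_apply]
      pff := fun i j hi hj => by simp [hp, f, hi, hj, Pi.single_apply]
      pef := fun i hi => by simp [hp, e, f, hi, Pi.single_apply]
      pef' := fun i j hi hj h => by simp [hp, e, f, hi, hj, Pi.single_apply, h, Ne.symm h]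
      qu0 := by simp [u, Cfsg.quadFormMinus, Pi.single_apply]
      u0e := fun i hi => by simp [hp, u, e, hi, Pi.single_apply]
      u0f := fun i hi => by simp [hp, u, f, hi, Pi.single_apply]
      u1e := fun i hi => by simp [hp, v, e, hi, Pi.single_apply]
      u1f := fun i hi => by simp [hp, v, f, hi, Pi.single_apply]
      span := fun y hy => by
        have hQ0 : Cfsg.quadFormMinus k F a b u = 1 := by simp [u, Cfsg.quadFormMinus, Pi.single_apply]
        have hpa : pol (Cfsg.quadFormMinus k F a b) v u = 2 * s + a := by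
          simp [hp, u, v, Pi.single_apply]
        set t := (y (.inr 0) - s * y (.inr 1)) / (2 * s + a)
        refine Submodule.mem_span_pair.2 ⟨y (.inr 1) + t, -t, ?_⟩
        rw [hQ0, hpa, div_one]
        funext x
        rcases x with (i | i) | i
        · have := (hy i.1 i.2).2
          simp [hp, f, Pi.single_apply] at this
          simp [u, v, this]
        · have := (hy i.1 i.2).1
          simp [hp, e, Pi.single_apply] at this
          simp [u, v, this]
        · fin_cases i
          · simp [u, v]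
            have key : t * (2 * s + a) = y (.inr 0) - s * y (.inr 1) := div_mul_cancel₀ _ hs
            linear_combination key
          · simp [u, v] }
  exact pomega_two_gen (quadFormMinus_nd a b hab) (by simp only [Fintype.card_sum, Fintype.card_fin]; omega)
    (D.two_gen (quadFormMinus_nd a b hab) hk)

end CfsgLib.PGroup.OrthTwoGen
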